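import Cfsg.Agent.SM.Fac
import Mathlib.GroupTheory.Transfer
import Mathlib.GroupTheory.Nilpotent

/-!
# SM (S3570): tools on the level of `T` for an abstract factorisation `Fac M S H T B` (helper55)

`A = T ⊓ B`.  `Fac.mid`: no `H ⊓ B`-invariant subgroup strictly between `A` and `T`; `Fac.nrm`: `N_T(C) = A`;
`Fac.syl`, `Fac.syl_num`: a normal Sylow subgroup of `A` is a Sylow subgroup of `T`, `|T : A| ≡ 1`; `Fac.not_central`,
`Fac.not_comm`, `Fac.not_prime` (Burnside); `conj_le` (conjugacy of subgroups of small index); `Fac.map`, `Fac.top`.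
-/

set_option autoImplicit false
set_option linter.unusedSectionVars false
set_option linter.unusedVariables false
set_option linter.style.haveILetI false

namespace Cfsg.Agent.SM

open Subgroup MulAction

namespace Fac

variable {Γ : Type} [Group Γ] {M S H T B : Subgroup Γ}

theorem HM (f : Fac M S H T B) : H ≤ M := f.hm.le

theorem BM (f : Fac M S H T B) : B ≤ M := f.bm.le

theorem conjA (f : Fac M S H T B) {g : Γ} (hg : g ∈ H ⊓ B) {x : Γ} (hx : x ∈ T ⊓ B) : g * x * g⁻¹ ∈ T ⊓ B :=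
  ⟨f.asH.conj g hg.1 x hx.1, B.mul_mem (B.mul_mem hg.2 hx.2) (B.inv_mem hg.2)⟩

/-- a non-trivial subgroup of `T` normalised by `T` is `T` -/
theorem eq_of_conj (f : Fac M S H T B) {C : Subgroup Γ} (hC : C ≤ T) (h0 : C ≠ ⊥)
    (hn : ∀ g ∈ T, ∀ x ∈ C, g * x * g⁻¹ ∈ C) : C = T := by
  haveI := f.asH.simple
  have hN : (C.subgroupOf T).Normal := ⟨fun x hx g => hn g g.2 x hx⟩
  rcases hN.eq_bot_or_eq_top with h | h
  · exact (h0 (by rw [subgroupOf_eq_bot] at h; exact h.eq_bot_of_le hC)).elim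
  · exact le_antisymm hC (subgroupOf_eq_top.1 h)

/-- **(P')** a subgroup between `A` and `T` normalised by `H ⊓ B` is `A` or `T` -/
theorem mid (f : Fac M S H T B) {K : Subgroup Γ} (h1 : T ⊓ B ≤ K) (h2 : K ≤ T)
    (hn : ∀ g ∈ H ⊓ B, ∀ x ∈ K, g * x * g⁻¹ ∈ K) : K = T ⊓ B ∨ K = T := by
  let L : Subgroup Γ :=
    { carrier := {x | ∃ a ∈ H ⊓ B, ∃ k ∈ K, x = a * k}
      one_mem' := ⟨1, one_mem _, 1, one_mem _, (mul_one _).symm⟩
      mul_mem' := by
        rintro _ _ ⟨a, ha, k, hk, rfl⟩ ⟨b, hb, l, hl, rfl⟩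
        refine ⟨a * b, mul_mem ha hb, (b⁻¹ * k * b⁻¹⁻¹) * l, K.mul_mem (hn _ (inv_mem hb) k hk) hl, by group⟩
      inv_mem' := by
        rintro _ ⟨a, ha, k, hk, rfl⟩
        exact ⟨a⁻¹, inv_mem ha, a * k⁻¹ * a⁻¹, hn a ha _ (K.inv_mem hk), by group⟩ }
  have l1 : H ⊓ B ≤ L := fun a ha => ⟨a, ha, 1, one_mem _, (mul_one _).symm⟩
  have l2 : L ≤ H := by
    rintro _ ⟨a, ha, k, hk, rfl⟩
    exact H.mul_mem ha.1 (f.asH.le (h2 hk))
  rcases f.pr.eq_or_eq l1 l2 with h | h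
  · left
    refine le_antisymm (fun k hk => ⟨h2 hk, ?_⟩) h1
    have : k ∈ L := ⟨1, one_mem _, k, hk, (one_mul _).symm⟩
    rw [h] at this
    exact this.2
  · right
    refine le_antisymm h2 fun t ht => ?_
    have : t ∈ L := by rw [h]; exact f.asH.le ht
    obtain ⟨a, ha, k, hk, rfl⟩ := this
    have h3 : a ∈ T := by
      have := T.mul_mem ht (T.inv_mem (h2 hk))
      rwa [mul_inv_cancel_right] at this
    exact K.mul_mem (h1 ⟨h3, ha.2⟩) hk

/-- **(P)** `N_T(C) = A` for a non-trivial subgroup `C` of `A` normalised by `H ⊓ B` -/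
theorem nrm (f : Fac M S H T B) {C : Subgroup Γ} (hC : C ≤ T ⊓ B) (h0 : C ≠ ⊥)
    (hn : ∀ g ∈ H ⊓ B, ∀ x ∈ C, g * x * g⁻¹ ∈ C) : T ⊓ normalizer (C : Set Γ) = T ⊓ B := by
  have hle : H ⊓ B ≤ normalizer (C : Set Γ) := fun g hg => by
    rw [mem_normalizer_iff]
    intro x
    refine ⟨fun hx => hn g hg x hx, fun hx => ?_⟩
    have := hn g⁻¹ (inv_mem hg) _ hx
    simpa [mul_assoc] using this
  rcases f.mid (K := T ⊓ normalizer (C : Set Γ)) (fun x hx => ⟨hx.1, hle ⟨f.asH.le hx.1, hx.2⟩⟩) inf_le_left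
    (fun g hg x hx => ⟨f.asH.conj g hg.1 x hx.1,
      Subgroup.mul_mem _ (Subgroup.mul_mem _ (hle hg) hx.2) (Subgroup.inv_mem _ (hle hg))⟩) with h | h
  · exact h
  · exfalso
    have h1 : C = T := f.eq_of_conj (hC.trans inf_le_left) h0 fun g hg x hx => by
      have : g ∈ T ⊓ normalizer (C : Set Γ) := by rw [h]; exact hg
      exact (mem_normalizer_iff.1 this.2 x).1 hx
    exact f.nT (h1 ▸ hC.trans inf_le_right)

/-- `C_T(C) ≤ B` -/
theorem mem_of_comm (f : Fac M S H T B) {C : Subgroup Γ} (hC : C ≤ T ⊓ B) (h0 : C ≠ ⊥)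
    (hn : ∀ g ∈ H ⊓ B, ∀ x ∈ C, g * x * g⁻¹ ∈ C) {t : Γ} (ht : t ∈ T) (h : ∀ x ∈ C, t * x = x * t) : t ∈ B := by
  have : t ∈ T ⊓ normalizer (C : Set Γ) := by
    refine ⟨ht, centralizer_le_normalizer _ ?_⟩
    rw [mem_centralizer_iff]
    exact fun x hx => (h x hx).symm
  rw [f.nrm hC h0 hn] at this
  exact this.2

variable [Finite Γ]

theorem card_mul (T B : Subgroup Γ) : Nat.card ↥(T ⊓ B) * B.relIndex T = Nat.card T := by
  have h := (B.subgroupOf T).card_mul_index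
  rw [← h, relIndex]
  congr 1
  rw [← inf_subgroupOf_left]
  exact (Nat.card_congr (subgroupOfEquivOfLe (inf_le_left : T ⊓ B ≤ T)).toEquiv).symm

/-- `|S| |A| = |T| |S ⊓ B|` -/
theorem card_eq (f : Fac M S H T B) : Nat.card S * Nat.card ↥(T ⊓ B) = Nat.card T * Nat.card ↥(S ⊓ B) := by
  rw [← card_mul S B, ← card_mul T B, ← f.relIndex_eq]
  ring

/-- the elements of `p`-power order of `A`, when `A` has one Sylow `p`-subgroup -/
theorem exists_syl (f : Fac M S H T B) {p : ℕ} [hp : Fact p.Prime] (hd : p ∣ Nat.card ↥(T ⊓ B))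
    (h1 : Nat.card (Sylow p ↥(T ⊓ B)) = 1) : ∃ Q : Sylow p T, normalizer ((Q : Subgroup T) : Set T) = B.subgroupOf T ∧
      (Q : Subgroup T) ≠ ⊥ := by
  haveI : Subsingleton (Sylow p ↥(T ⊓ B)) := (Nat.card_eq_one_iff_unique.1 h1).1
  obtain ⟨P⟩ : Nonempty (Sylow p ↥(T ⊓ B)) := inferInstance
  set C : Subgroup Γ := (P : Subgroup ↥(T ⊓ B)).map (T ⊓ B).subtype with hCdef
  have hCA : C ≤ T ⊓ B := map_subtype_le _
  have hCp : IsPGroup p C := P.isPGroup'.map _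
  have key : ∀ y ∈ T ⊓ B, (∃ k : ℕ, y ^ p ^ k = 1) → y ∈ C := by
    rintro y hy ⟨k, hk⟩
    have h2 : IsPGroup p (zpowers (⟨y, hy⟩ : ↥(T ⊓ B))) := by
      rintro ⟨_, j, rfl⟩
      refine ⟨k, Subtype.ext (Subtype.ext ?_)⟩
      show (y ^ j) ^ p ^ k = 1
      rw [← zpow_natCast, ← zpow_mul, mul_comm, zpow_mul, zpow_natCast, hk, one_zpow]
    obtain ⟨P', hP'⟩ := h2.exists_le_sylow
    rw [Subsingleton.elim P' P] at hP'
    exact ⟨⟨y, hy⟩, hP' (mem_zpowers _), rfl⟩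
  have hel : ∀ y ∈ C, ∃ k : ℕ, y ^ p ^ k = 1 := fun y hy => by
    obtain ⟨k, hk⟩ := hCp ⟨y, hy⟩
    exact ⟨k, congrArg Subtype.val hk⟩
  have h0 : C ≠ ⊥ := by
    intro h
    have h3 : (P : Subgroup ↥(T ⊓ B)) = ⊥ := (map_eq_bot_iff_of_injective _ (T ⊓ B).subtype_injective).1 h
    have h4 := P.not_dvd_index
    rw [h3, index_bot] at h4
    exact h4 hd
  have hn : ∀ g ∈ H ⊓ B, ∀ x ∈ C, g * x * g⁻¹ ∈ C := fun g hg x hx => by
    obtain ⟨k, hk⟩ := hel x hx
    exact key _ (f.conjA hg (hCA hx)) ⟨k, by rw [conj_pow, hk]; group⟩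
  have hN := f.nrm hCA h0 hn
  have hCT : C ≤ T := hCA.trans inf_le_left
  have hC' : IsPGroup p (C.subgroupOf T) := hCp.comap_subtype
  obtain ⟨Q, hQ⟩ := hC'.exists_le_sylow
  have hNT : normalizer ((C.subgroupOf T : Subgroup T) : Set T) = B.subgroupOf T := by
    rw [← subgroupOf_normalizer_eq hCT, ← inf_subgroupOf_left, hN, inf_subgroupOf_left]
  have hQC : (Q : Subgroup T) = C.subgroupOf T := by
    by_contra hne
    haveI := Q.isPGroup'.isNilpotent
    have h5 : (C.subgroupOf T).subgroupOf (Q : Subgroup T) < ⊤ :=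
      lt_top_iff_ne_top.2 fun h => hne (le_antisymm (subgroupOf_eq_top.1 h) hQ)
    obtain ⟨y, hy1, hy2⟩ := SetLike.exists_of_lt (Group.normalizerCondition_of_isNilpotent _ h5)
    rw [← subgroupOf_normalizer_eq hQ, hNT] at hy1
    obtain ⟨k, hk⟩ := Q.isPGroup' y
    exact hy2 (key _ ⟨y.1.2, hy1⟩ ⟨k, congrArg (fun z => (z.1.1 : Γ)) hk⟩)
  refine ⟨Q, by rw [hQC, hNT], ?_⟩
  rw [hQC]
  intro h
  exact h0 ((subgroupOf_eq_bot.1 h).eq_bot_of_le hCT)

/-- **K1** a normal Sylow `p`-subgroup of `A` is a Sylow subgroup of `T` with normaliser `A` -/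
theorem syl (f : Fac M S H T B) {p : ℕ} [hp : Fact p.Prime] (hd : p ∣ Nat.card ↥(T ⊓ B))
    (h1 : Nat.card (Sylow p ↥(T ⊓ B)) = 1) : B.relIndex T ≡ 1 [MOD p] := by
  obtain ⟨Q, hQ, -⟩ := f.exists_syl hd h1
  have h2 : Nat.card (Sylow p T) = (normalizer ((Q : Subgroup T) : Set T)).index := Q.card_eq_index_normalizer
  rw [relIndex, ← hQ, ← h2]
  exact card_sylow_modEq_one p T

theorem card_syl_eq_one {A : Type*} [Group A] [Finite A] {p k m : ℕ} [hp : Fact p.Prime] (hc : Nat.card A = p ^ k * m)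
    (hm : ¬ p ∣ m) (h : ∀ d ∈ m.divisors, d % p = 1 → d = 1) : Nat.card (Sylow p A) = 1 := by
  obtain ⟨P⟩ : Nonempty (Sylow p A) := inferInstance
  have hm0 : m ≠ 0 := by rintro rfl; exact hm (dvd_zero _)
  have h1 := card_sylow_modEq_one p A
  have h2 : Nat.card (Sylow p A) ∣ p ^ k * m := hc ▸ P.card_dvd_index.trans (index_dvd_card _)
  have h3 : (Nat.card (Sylow p A)).Coprime (p ^ k) :=
    Nat.Coprime.pow_right _ ((Nat.Prime.coprime_iff_not_dvd hp.out).2 (not_dvd_card_sylow p A)).symm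
  refine h _ (Nat.mem_divisors.2 ⟨h3.dvd_of_dvd_mul_left h2, hm0⟩) ?_
  rw [h1, Nat.mod_eq_of_lt hp.out.one_lt]

/-- **K1**, numerical form -/
theorem syl_num (f : Fac M S H T B) (p k m : ℕ) (hp : p.Prime) (hc : Nat.card ↥(T ⊓ B) = p ^ (k + 1) * m)
    (hm : ¬ p ∣ m) (h : ∀ d ∈ m.divisors, d % p = 1 → d = 1) : B.relIndex T % p = 1 := by
  haveI := Fact.mk hp
  have := f.syl (p := p) (hc ▸ Dvd.dvd.mul_right (dvd_pow_self p k.succ_ne_zero) m) (card_syl_eq_one hc hm h)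
  rw [this, Nat.mod_eq_of_lt hp.one_lt]

/-- **K2** (Burnside): the elements of `p`-power order of `A` are not all central in `A` -/
theorem not_central (f : Fac M S H T B) {p : ℕ} [hp : Fact p.Prime] (hd : p ∣ Nat.card ↥(T ⊓ B))
    (h : ∀ x ∈ T ⊓ B, (∃ k : ℕ, x ^ p ^ k = 1) → ∀ a ∈ T ⊓ B, a * x = x * a) : False := by
  have h1 : Nat.card (Sylow p ↥(T ⊓ B)) = 1 := by
    obtain ⟨P⟩ : Nonempty (Sylow p ↥(T ⊓ B)) := inferInstance
    have hN : (P : Subgroup ↥(T ⊓ B)).Normal := ⟨fun x hx g => by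
      obtain ⟨k, hk⟩ := P.isPGroup' ⟨x, hx⟩
      have h2 : g * x = x * g := Subtype.ext (h x x.2 ⟨k, congrArg (fun z => (z.1.1 : Γ)) hk⟩ g g.2)
      rw [h2, mul_inv_cancel_right]
      exact hx⟩
    haveI := P.unique_of_normal hN
    exact Nat.card_unique
  obtain ⟨Q, hQ, hQ0⟩ := f.exists_syl hd h1
  have hle : (Q : Subgroup T) ≤ B.subgroupOf T := hQ ▸ le_normalizer
  have hc : normalizer ((Q : Subgroup T) : Set T) ≤ centralizer ((Q : Subgroup T) : Set T) := by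
    rw [hQ]
    intro a ha
    rw [mem_centralizer_iff]
    intro x hx
    obtain ⟨k, hk⟩ := Q.isPGroup' ⟨x, hx⟩
    exact Subtype.ext (h x ⟨x.2, hle hx⟩ ⟨k, congrArg (fun z => (z.1.1 : Γ)) hk⟩ a ⟨a.2, ha⟩).symm
  have hK := MonoidHom.ker_transferSylow_isComplement' Q hc
  haveI := f.asH.simple
  rcases (MonoidHom.normal_ker (MonoidHom.transferSylow Q hc)).eq_bot_or_eq_top with h2 | h2
  · rw [h2, isComplement'_bot_left] at hK
    exact f.nT (subgroupOf_eq_top.1 (top_le_iff.1 (hK ▸ hle)))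
  · rw [h2, isComplement'_top_left] at hK
    exact hQ0 hK

/-- **K2**: `A` is not abelian -/
theorem not_comm (f : Fac M S H T B) (h : ∀ x ∈ T ⊓ B, ∀ a ∈ T ⊓ B, a * x = x * a) : False := by
  have h1 : Nat.card ↥(T ⊓ B) ≠ 1 := fun h => f.nb (card_eq_one.1 h)
  obtain ⟨p, hp, hd⟩ := Nat.exists_prime_and_dvd h1
  haveI := Fact.mk hp
  exact f.not_central hd fun x hx _ a ha => h x hx a ha

theorem not_cyclic (f : Fac M S H T B) (h : IsCyclic ↥(T ⊓ B)) : False :=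
  f.not_comm fun x hx a ha => congrArg Subtype.val (h.commGroup.mul_comm ⟨a, ha⟩ ⟨x, hx⟩)

/-- **K2**: the order of `A` is not a prime -/
theorem not_prime (f : Fac M S H T B) : ¬ (Nat.card ↥(T ⊓ B)).Prime := fun h =>
  haveI := Fact.mk h
  f.not_cyclic (isCyclic_of_prime_card rfl)

/-- **K2**: the order of `A` is not the square of a prime -/
theorem not_prime_sq (f : Fac M S H T B) {p : ℕ} (hp : p.Prime) : Nat.card ↥(T ⊓ B) ≠ p ^ 2 := fun h =>
  haveI := Fact.mk hp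
  f.not_comm fun x hx a ha => congrArg Subtype.val ((IsPGroup.isMulCommutative_of_card_eq_prime_sq h).is_comm.comm ⟨a, ha⟩ ⟨x, hx⟩)

end Fac

/-! ### conjugacy of subgroups of small index -/

/-- **CONJ**: `P ≤ U` a `p`-group, `p ∤ |G : V|`, and every proper subgroup of `U` over `P` has index `> |G : V|`; then `U` lies in
a conjugate of `V`. -/
theorem conj_le {G : Type*} [Group G] [Finite G] {p : ℕ} [Fact p.Prime] {P U V : Subgroup G} (hP : IsPGroup p P) (hPU : P ≤ U)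
    (hV : ¬ p ∣ V.index) (h : ∀ W : Subgroup G, P ≤ W → W ≤ U → W.relIndex U ≤ V.index → W = U) :
    ∃ g : G, ∀ u ∈ U, g⁻¹ * u * g ∈ V := by
  obtain ⟨q, hq⟩ := hP.nonempty_fixed_point_of_prime_not_dvd_card (G ⧸ V) hV
  have h1 : U ⊓ stabilizer G q = U := by
    refine h _ (le_inf hPU fun x hx => hq ⟨x, hx⟩) inf_le_left ?_
    rw [inf_relIndex_left]
    have h2 : (stabilizer G q).relIndex U ≤ (stabilizer G q).index :=
      relIndex_top_right (stabilizer G q) ▸ relIndex_le_of_le_right le_top (by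
        rw [relIndex_top_right]; exact index_ne_zero_of_finite)
    rwa [index_stabilizer_of_transitive] at h2
  induction q using QuotientGroup.induction_on with
  | H g =>
    refine ⟨g, fun u hu => ?_⟩
    have h3 : u ∈ stabilizer G (g : G ⧸ V) := (h1.ge hu).2
    have h4 : ((u * g : G) : G ⧸ V) = g := h3
    have h5 := QuotientGroup.eq.1 h4.symm
    rwa [← mul_assoc] at h5

/-! ### transport -/

theorem covBy_map {Γ Γ' : Type} [Group Γ] [Group Γ'] {φ : Γ →* Γ'} (hφ : Function.Injective φ) {A B : Subgroup Γ} (h : A ⋖ B) :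
    A.map φ ⋖ B.map φ := by
  refine ⟨lt_of_le_of_ne (map_mono h.le) fun e => h.ne (map_injective hφ e), fun K h1 h2 => ?_⟩
  have hK : (K.comap φ).map φ = K := map_comap_eq_self (h2.le.trans (map_le_range _ _))
  refine h.2 (c := K.comap φ) ?_ ?_
  · exact lt_of_le_of_ne (map_le_iff_le_comap.1 h1.le) fun e => h1.ne (by rw [e, hK])
  · refine lt_of_le_of_ne ?_ fun e => h2.ne (by rw [← e, hK])
    rw [← comap_map_eq_self_of_injective hφ B]
    exact comap_mono h2.le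

theorem AS.map {Γ Γ' : Type} [Group Γ] [Group Γ'] {φ : Γ →* Γ'} (hφ : Function.Injective φ) {X T : Subgroup Γ} (h : AS X T) :
    AS (X.map φ) (T.map φ) where
  le := map_mono h.le
  conj := by
    rintro _ ⟨g, hg, rfl⟩ _ ⟨x, hx, rfl⟩
    exact ⟨g * x * g⁻¹, h.conj g hg x hx, by simp⟩
  simple := haveI := h.simple; (equivMapOfInjective T φ hφ).symm.isSimpleGroup
  nab := fun hc => h.nab ⟨⟨fun a b => (equivMapOfInjective T φ hφ).injective (by
    rw [map_mul, map_mul]; exact hc.is_comm.comm _ _)⟩⟩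
  cen := by
    rintro _ ⟨g, hg, rfl⟩ hc
    rw [h.cen g hg fun t ht => hφ (by rw [map_mul, map_mul]; exact hc _ ⟨t, ht, rfl⟩), map_one]

theorem Fac.map {Γ Γ' : Type} [Group Γ] [Group Γ'] {φ : Γ →* Γ'} (hφ : Function.Injective φ) {M S H T B : Subgroup Γ}
    (f : Fac M S H T B) : Fac (M.map φ) (S.map φ) (H.map φ) (T.map φ) (B.map φ) where
  asM := f.asM.map hφ
  asH := f.asH.map hφ
  le := map_mono f.le
  ne := fun e => f.ne (map_injective hφ e)
  hm := covBy_map hφ f.hm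
  bm := covBy_map hφ f.bm
  nH := fun e => f.nH ((map_le_map_iff_of_injective hφ).1 e)
  nB := fun e => f.nB ((map_le_map_iff_of_injective hφ).1 e)
  nT := fun e => f.nT ((map_le_map_iff_of_injective hφ).1 e)
  pr := by rw [← map_inf _ _ _ hφ]; exact covBy_map hφ f.pr
  nb := by rw [← map_inf _ _ _ hφ]; exact fun e => f.nb ((map_eq_bot_iff_of_injective _ hφ).1 e)
  fac := by
    rintro _ ⟨s, hs, rfl⟩
    obtain ⟨t, ht, b, hb, rfl⟩ := f.fac s hs
    exact ⟨φ t, ⟨t, ht, rfl⟩, φ b, ⟨b, hb, rfl⟩, map_mul _ _ _⟩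
  facH := by
    rintro _ ⟨m, hm, rfl⟩
    obtain ⟨h, hh, s, hs, rfl⟩ := f.facH m hm
    exact ⟨φ h, ⟨⟨h, hh.1, rfl⟩, ⟨h, hh.2, rfl⟩⟩, φ s, ⟨s, hs, rfl⟩, map_mul _ _ _⟩

theorem covBy_subgroupOf {Γ : Type} [Group Γ] {A B M : Subgroup Γ} (h : A ⋖ B) (hB : B ≤ M) :
    A.subgroupOf M ⋖ B.subgroupOf M := by
  have e1 : (A.subgroupOf M).map M.subtype = A := map_subgroupOf_eq_of_le (h.le.trans hB)
  have e2 : (B.subgroupOf M).map M.subtype = B := map_subgroupOf_eq_of_le hB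
  refine ⟨lt_of_le_of_ne (comap_mono h.le) fun e => h.ne (by rw [← e1, e, e2]), fun K h1 h2 => ?_⟩
  refine h.2 (c := K.map M.subtype) ?_ ?_
  · rw [← e1]
    exact lt_of_le_of_ne (map_mono h1.le) fun e => h1.ne (map_injective M.subtype_injective e)
  · rw [← e2]
    exact lt_of_le_of_ne (map_mono h2.le) fun e => h2.ne (map_injective M.subtype_injective e)

theorem AS.subgroupOf {Γ : Type} [Group Γ] {X T M : Subgroup Γ} (h : AS X T) (hX : X ≤ M) :
    AS (X.subgroupOf M) (T.subgroupOf M) where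
  le := comap_mono h.le
  conj := fun g hg x hx => h.conj g hg x hx
  simple := haveI := h.simple; (subgroupOfEquivOfLe (h.le.trans hX)).isSimpleGroup
  nab := fun hc => h.nab ⟨⟨fun a b => (subgroupOfEquivOfLe (h.le.trans hX)).symm.injective (by
    rw [map_mul, map_mul]; exact hc.is_comm.comm _ _)⟩⟩
  cen := fun g hg hc => Subtype.ext (h.cen g hg fun t ht =>
    congrArg Subtype.val (hc ⟨t, hX (h.le ht)⟩ ht))

/-- the factorisation inside the group `M` itself -/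
theorem Fac.top {Γ : Type} [Group Γ] {M S H T B : Subgroup Γ} (f : Fac M S H T B) :
    Fac (M.subgroupOf M) (S.subgroupOf M) (H.subgroupOf M) (T.subgroupOf M) (B.subgroupOf M) := by
  have hS := f.asM.le
  have hT := f.le.trans hS
  have inj : ∀ {A C : Subgroup Γ}, A ≤ M → A.subgroupOf M ≤ C.subgroupOf M → A ≤ C := fun hA h x hx => h (x := ⟨x, hA hx⟩) hx
  exact
  { asM := f.asM.subgroupOf le_rfl
    asH := f.asH.subgroupOf f.HM
    le := comap_mono f.le
    ne := fun e => f.ne (le_antisymm f.le (inj hS e.ge))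
    hm := covBy_subgroupOf f.hm le_rfl
    bm := covBy_subgroupOf f.bm le_rfl
    nH := fun e => f.nH (inj hS e)
    nB := fun e => f.nB (inj hS e)
    nT := fun e => f.nT (inj hT e)
    pr := covBy_subgroupOf f.pr f.HM
    nb := fun e => f.nb (le_bot_iff.1 (inj (inf_le_left.trans hT) (e.le.trans bot_le)))
    fac := fun s hs => by
      obtain ⟨t, ht, b, hb, e⟩ := f.fac s hs
      exact ⟨⟨t, hT ht⟩, ht, ⟨b, f.BM hb⟩, hb, Subtype.ext e⟩
    facH := fun m _ => by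
      obtain ⟨h, hh, s, hs, e⟩ := f.facH m m.2
      exact ⟨⟨h, f.HM hh.1⟩, hh, ⟨s, hS hs⟩, hs, Subtype.ext e⟩ }

end Cfsg.Agent.SM
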