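import Cfsg.Prelude.Def_Spor_Mathieu

/-!
# SM (S3570): pure boxes on the Mathieu groups (helper55)
-/

set_option autoImplicit false

namespace Cfsg.Agent.SM.Mat

open Cfsg MulAction
open scoped Pointwise

/-- the orders of the maximal subgroups of `M11` -/
def BoxMax11 : Prop := ∀ X : Subgroup Spor.M11, IsCoatom X → Nat.card X ∈ [720, 660, 144, 120, 48]

/-- `M12` has no subgroup of index `55` or `165` -/
def BoxIdx12 : Prop := ∀ Y : Subgroup Spor.M12, Y.index ≠ 55 ∧ Y.index ≠ 165

/-- `M22` has no subgroup of the order of `M11` -/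
def BoxNo22 : Prop := ∀ U : Subgroup Spor.M22, Nat.card U ≠ 7920

/-- a subgroup of index `66` of `M12` is the stabiliser of a pair of points of the dodecad or of its complement -/
def BoxDuad12 : Prop := ∀ Y : Subgroup Spor.M12, Y.index = 66 → ∃ δ : Finset GolayPt, δ.card = 2 ∧
  (δ ⊆ Spor.squareDodecad ∨ δ ⊆ Spor.squareDodecadᶜ) ∧ ∀ y : Spor.M12, y ∈ Y ↔ (y : Equiv.Perm GolayPt) • δ = δ

/-- an automorphism of `M12` which fixes a subgroup of index `66` is inner -/
def BoxAut12 : Prop := ∀ (Y : Subgroup Spor.M12) (θ : MulAut Spor.M12), Y.index = 66 → (∀ y ∈ Y, θ y ∈ Y) →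
  ∃ g : Spor.M12, θ = MulAut.conj g

end Cfsg.Agent.SM.Mat
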