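import Cfsg.Agent.SM.Mat.Tool
import Cfsg.Agent.H715.Fpr.M11
import Cfsg.Agent.H715.Fpr.M12
import Cfsg.Agent.H715.Fpr.M22
import Cfsg.Agent.H715.Fpr.M23
import Cfsg.Agent.H715.Fpr.M24
import Cfsg.Agent.OrdDiv.Table
import Cfsg.Agent.S0000
import Cfsg.Prelude.Def_KGroupFacts

/-!
# SM (S3570): the numerical sieve for the Mathieu groups (helper55)
-/

set_option autoImplicit false
set_option linter.unusedSectionVars false
set_option linter.unusedVariables false
set_option linter.style.haveILetI false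

namespace Cfsg.Agent.SM.Mat

open Cfsg Subgroup Cfsg.Agent.OrdDiv Cfsg.Agent.H940.Eng Cfsg.Agent.H940.Eng.D

theorem base : Base where
  table := Cfsg.Agent.OrdDiv.table
  known _ _ _ _ := Cfsg.Agent.S0000.result

/-- the tests on the level of `T`: `c = |A|`, `m = |T : A|` -/
def tk (l : List (ℕ × ℕ)) (c m : ℕ) : Bool :=
  l.any fun x => c == x.1 || c == x.1 ^ 2 || (c % x.1 == 0 && m % x.1 != 1 &&
    (divsT l).all fun d => d % x.1 != 1 || d == 1 || (c / x.1 ^ val x.1 x.2 c) % d != 0)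

/-- the sieve -/
def sv (l : List (ℕ × ℕ)) (n : ℕ) (ords : List ℕ) (loc : List LD) (L : List (ℕ × ℕ)) : Bool :=
  ords.all fun a => a == n || n % a != 0 || bad l n [] 30 loc ords a ||
    (divsT l).all fun c => a % c != 0 || c == 1 || c == a || L.contains (a, c) || bad l n [] 30 loc ords (n / a * c) ||
      bad l n [] 30 loc ords c || tk l c (a / c)

variable {Γ : Type} [Group Γ] [Finite Γ] {M S H T B : Subgroup Γ}

theorem not_tk (f : Fac M S H T B) {l : List (ℕ × ℕ)} {n : ℕ} (hv : valid l n = true) (hd : Nat.card ↥(T ⊓ B) ∣ n) :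
    tk l (Nat.card ↥(T ⊓ B)) (B.relIndex T) = false := by
  unfold tk
  rw [List.any_eq_false]
  intro x hx h
  have hp := valid_prime hv x hx
  have h0 : Nat.card ↥(T ⊓ B) ≠ 0 := Nat.card_pos.ne'
  rw [Bool.or_eq_true, Bool.or_eq_true, beq_iff_eq, beq_iff_eq, Bool.and_eq_true, Bool.and_eq_true, beq_iff_eq, bne_iff_ne,
    List.all_eq_true, val_le hv hd x hx] at h
  rcases h with (h | h) | ⟨⟨h1, h2⟩, h3⟩
  · exact f.not_prime (h ▸ hp)
  · exact f.not_prime_sq hp h
  · have h4 := hp.factorization_pos_of_dvd h0 (Nat.dvd_of_mod_eq_zero h1)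
    obtain ⟨k, hk⟩ : ∃ k, (Nat.card ↥(T ⊓ B)).factorization x.1 = k + 1 := ⟨_, (Nat.succ_pred_eq_of_pos h4).symm⟩
    refine h2 (f.syl_num x.1 k _ hp (by rw [← hk]; exact (Nat.ordProj_mul_ordCompl_eq_self _ _).symm)
      (Nat.not_dvd_ordCompl hp h0) fun d hd1 hd2 => ?_)
    have h5 := Nat.dvd_of_mem_divisors hd1
    have h6 := h3 d (mem_divsT (valid_prime hv) (valid_prod hv ▸ (h5.trans (Nat.ordCompl_dvd _ _)).trans hd))
    rw [Bool.or_eq_true, Bool.or_eq_true, bne_iff_ne, bne_iff_ne, beq_iff_eq] at h6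
    rcases h6 with (h6 | h6) | h6
    · exact (h6 hd2).elim
    · exact h6
    · exact (h6 (Nat.mod_eq_zero_of_dvd h5)).elim

/-- the image in the model `K` of a subgroup -/
def im {K : Type} [Group K] (e : S ≃* K) (U : Subgroup Γ) : Subgroup K := (U.subgroupOf S).map e.toMonoidHom

theorem mem_im {K : Type} [Group K] (e : S ≃* K) {U : Subgroup Γ} (s : S) : e s ∈ im e U ↔ (s : Γ) ∈ U :=
  ⟨fun ⟨t, ht, h⟩ => by rw [← show t = s from e.injective h]; exact ht, fun h => ⟨s, h, rfl⟩⟩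

theorem card_im {K : Type} [Group K] (e : S ≃* K) (U : Subgroup Γ) : Nat.card (im e U) = Nat.card ↥(S ⊓ U) := by
  rw [im, card_map_of_injective e.injective, ← inf_subgroupOf_left]
  exact Nat.card_congr (subgroupOfEquivOfLe inf_le_left).toEquiv

theorem card_im_le {K : Type} [Group K] (e : S ≃* K) {U : Subgroup Γ} (h : U ≤ S) : Nat.card (im e U) = Nat.card U := by
  rw [card_im, inf_eq_right.2 h]

theorem index_im {K : Type} [Group K] (e : S ≃* K) (U : Subgroup Γ) : (im e U).index = U.relIndex S :=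
  index_map_equiv _ e

theorem im_ne_top {K : Type} [Group K] (e : S ≃* K) {U : Subgroup Γ} (h : ¬ S ≤ U) : im e U ≠ ⊤ := fun h1 =>
  h fun s hs => (mem_im e ⟨s, hs⟩).1 (h1 ▸ mem_top _)

/-- **The sieve.** -/
theorem sieve (f : Fac M S H T B) {K : Type} [Group K] (e : S ≃* K) {l : List (ℕ × ℕ)} {n : ℕ} {ords : List ℕ} {loc : List LD}
    (c : Ctx K l n ords loc) {L : List (ℕ × ℕ)} (h : sv l n ords loc L = true) :
    (Nat.card T, Nat.card ↥(T ⊓ B)) ∈ L := by
  have := c.fin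
  have := c.simple
  have hS : Nat.card S = n := (Nat.card_congr e.toEquiv).trans c.card
  have hTS : Nat.card T ∣ n := hS ▸ card_dvd_of_le f.le
  have hAT : Nat.card ↥(T ⊓ B) ∣ Nat.card T := card_dvd_of_le inf_le_left
  have nb : ∀ {U : Subgroup Γ}, ¬ S ≤ U → bad l n [] 30 loc ords (Nat.card ↥(S ⊓ U)) = false := fun {U} hU => by
    rw [← card_im e U]
    exact not_bad c.val c.card c.ords c.loc (by simp) (im_ne_top e hU)
  have hnT : ¬ S ≤ T := fun h => f.ne (le_antisymm f.le h)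
  have h1 := List.all_eq_true.1 h _ (c.ords T f.asH.simple (fun hc => f.asH.nab ⟨⟨hc⟩⟩) hTS)
  have b1 := nb hnT
  rw [inf_eq_right.2 f.le] at b1
  have b2 := nb f.nB
  have b3 := nb (U := T ⊓ B) fun h => hnT (h.trans inf_le_left)
  rw [inf_eq_right.2 (inf_le_left.trans f.le)] at b3
  have e1 : Nat.card T ≠ n := fun h => f.ne (eq_of_le_of_card_ge f.le (by rw [h, hS]))
  have e2 : n / Nat.card T * Nat.card ↥(T ⊓ B) = Nat.card ↥(S ⊓ B) := by
    have := f.card_eq
    obtain ⟨i, hi⟩ := hTS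
    rw [hS, hi, mul_assoc] at this
    rw [hi, Nat.mul_div_cancel_left _ Nat.card_pos]
    exact Nat.eq_of_mul_eq_mul_left Nat.card_pos this
  have e3 : Nat.card T / Nat.card ↥(T ⊓ B) = B.relIndex T := by
    rw [← Fac.card_mul T B, Nat.mul_div_cancel_left _ Nat.card_pos]
  rw [b1, Nat.mod_eq_zero_of_dvd hTS, beq_false_of_ne e1] at h1
  have h2 := List.all_eq_true.1 (by simpa only [bne_self_eq_false, Bool.false_or] using h1) _
    (mem_divsT (valid_prime c.val) (valid_prod c.val ▸ hAT.trans hTS))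
  have e4 : Nat.card ↥(T ⊓ B) ≠ 1 := fun h => f.nb (card_eq_one.1 h)
  have e5 : Nat.card ↥(T ⊓ B) ≠ Nat.card T := fun h =>
    f.nT (inf_eq_left.1 (eq_of_le_of_card_ge inf_le_left h.ge))
  rw [e2, e3, b2, b3, not_tk f c.val (hAT.trans hTS), Nat.mod_eq_zero_of_dvd hAT, beq_false_of_ne e4, beq_false_of_ne e5] at h2
  simpa using h2

theorem sv11 : sv l_m11 n_m11 o_m11 H715.Fpr.M11.loc [(660, 10), (660, 12), (660, 55), (660, 60)] = true := by decide +kernel

theorem sv12 : sv l_m12 n_m12 o_m12 H715.Fpr.M12.loc [(660, 10), (660, 12), (660, 55), (7920, 12), (7920, 16), (7920, 20),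
    (7920, 24), (7920, 36), (7920, 48), (7920, 55), (7920, 60), (7920, 72), (7920, 80), (7920, 120), (7920, 144), (7920, 240),
    (7920, 660)] = true := by decide +kernel

theorem sv22 : sv l_m22 n_m22 o_m22 H715.Fpr.M22.loc [(7920, 24), (7920, 360), (20160, 360)] = true := by decide +kernel

theorem sv23 : sv l_m23 n_m23 o_m23 H715.Fpr.M23.loc [] = true := by decide +kernel

/-- the orders of `A` which survive for `T = M23` -/
def c23 : List ℕ := [10, 12, 24, 30, 36, 42, 48, 55, 56, 60, 72, 80, 90, 96, 112, 120, 128, 144, 160, 168, 180, 192, 240, 252, 253,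
  288, 320, 336, 360, 384, 448, 480, 504, 576, 640, 660, 720, 896, 960, 1152, 1344, 1440, 1920, 2016, 2520, 2688, 2880, 4032,
  5040, 5760, 7920, 20160, 40320]

theorem sv24 : sv l_m24 n_m24 o_m24 H715.Fpr.M24.loc ([(6048, 252), (6072, 6), (6072, 8), (6072, 12), (6072, 22), (6072, 24),
    (6072, 253)] ++ c23.map fun c => (10200960, c)) = true := by decide +kernel

/-- if all automorphisms of the socle are inner then `M = S` -/
theorem le_of_inner {X : Subgroup Γ} (h : AS X S) (hi : ∀ θ : MulAut S, ∃ g, θ = MulAut.conj g) : X ≤ S := fun m hm => by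
  obtain ⟨g, hg⟩ := hi (h.aut ⟨m, hm⟩)
  have h1 : (g : Γ)⁻¹ * m = 1 := h.cen _ (X.mul_mem (X.inv_mem (h.le g.2)) hm) fun t ht => by
    have h2 := h.aut_apply ⟨m, hm⟩ ⟨t, ht⟩
    rw [hg] at h2
    have h3 : (g : Γ) * t * (g : Γ)⁻¹ = m * t * m⁻¹ := h2
    calc (g : Γ)⁻¹ * m * t = (g : Γ)⁻¹ * (m * t * m⁻¹) * m := by group
      _ = t * ((g : Γ)⁻¹ * m) := by rw [← h3]; group
  rw [← inv_mul_eq_one.1 h1]
  exact g.2

theorem inner_congr {A K : Type*} [Group A] [Group K] (e : A ≃* K) (hi : ∀ θ : MulAut K, ∃ g, θ = MulAut.conj g) (θ : MulAut A) :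
    ∃ g, θ = MulAut.conj g := by
  obtain ⟨g, hg⟩ := hi ((e.symm.trans θ).trans e)
  refine ⟨e.symm g, MulEquiv.ext fun x => e.injective ?_⟩
  have := congrArg (fun φ : MulAut K => φ (e x)) hg
  simpa using this

theorem inner_of_out {K : Type*} [Group K] (h : Nat.card (Out K) = 1) (θ : MulAut K) : ∃ g, θ = MulAut.conj g := by
  have h1 : (Inn K).index = 1 := h
  obtain ⟨g, hg⟩ : θ ∈ Inn K := by rw [index_eq_one.1 h1]; exact mem_top _
  exact ⟨g, hg.symm⟩

end Cfsg.Agent.SM.Mat
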