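import Cfsg.Agent.SM.Mat.Geo
import Cfsg.Agent.SM.Mat.Sieve
import Cfsg.Agent.SM.Mat.Box
import Cfsg.Agent.S0363
import Cfsg.Agent.S0389
import Cfsg.Agent.S0434
import Cfsg.Agent.S2490

/-!
# SM (S3570): the maximal subgroups of `M11`; no subgroup of order `7920` in `M22` (helper38)
-/

set_option autoImplicit false

namespace Cfsg.Agent.SM.Mat.B1

open Cfsg Equiv Subgroup MulAction Cfsg.Agent.H940.Eng Cfsg.Agent.H940.Eng.D Cfsg.Agent.H715.Fpr
open scoped Pointwise

theorem card_stab {T : Subgroup (Perm GolayPt)} {E O : Finset GolayPt} (hO : O ⊆ E) (hE : ∀ g ∈ T, ∀ c ∈ E, g • c ∈ E)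
    (h : ∀ B ⊆ E, B.card = O.card → ∃ g ∈ T, g • O = B) :
    Nat.card ↥(T ⊓ stabilizer (Perm GolayPt) O) * E.card.choose O.card = Nat.card T := by
  rw [← card_orb T O, ← Finset.card_powersetCard]
  congr 2
  ext B
  rw [mem_orb, Finset.mem_powersetCard]
  refine ⟨fun k => h B k.1 k.2, ?_⟩
  rintro ⟨g, hg, rfl⟩
  refine ⟨fun c hc => ?_, Finset.card_smul_finset _ _⟩
  obtain ⟨d, hd, rfl⟩ := Finset.mem_smul_finset.1 hc
  exact hE g hg d (hO hd)

/-- the eleven points -/
abbrev D1 : Finset GolayPt := Spor.squareDodecad.erase (some 0)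

theorem card_D1 : D1.card = 11 := by rw [Finset.card_erase_of_mem zero_dod, dod.2]

theorem inv_D {g : Perm GolayPt} (hg : g ∈ Spor.M12) : ∀ c ∈ Spor.squareDodecad, g • c ∈ Spor.squareDodecad :=
  fun _ hc => inv_of_smul_eq hg.2 hc

theorem inv_D1 {g : Perm GolayPt} (hg : g ∈ Spor.M11) : ∀ c ∈ D1, g • c ∈ D1 := fun c hc => by
  rw [Finset.mem_erase] at hc ⊢
  exact ⟨fun e => hc.1 (MulAction.injective g (e.trans (show g • _ = _ from hg.2).symm)), inv_D hg.1 c hc.2⟩

theorem move11 {A B : Finset GolayPt} (hA : A ⊆ D1) (hB : B ⊆ D1) (h4 : A.card ≤ 4) (hc : B.card = A.card) :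
    ∃ g ∈ Spor.M11, g • A = B := by
  obtain ⟨g, hg, h1, h2⟩ := move12 dod (F := {some 0}) (by simpa using zero_dod) (hA.trans (Finset.erase_subset _ _))
    (hB.trans (Finset.erase_subset _ _)) (by rw [Finset.card_singleton]; omega) hc
    (Finset.disjoint_singleton_right.2 fun h => by simpa using hA h) (Finset.disjoint_singleton_right.2 fun h => by simpa using hB h)
  exact ⟨g, ⟨hg, h1 _ (by simp)⟩, h2⟩

variable {Y : Subgroup (Perm GolayPt)}

theorem eq_stab11 (h : Y ⋖ Spor.M11) {O : Finset GolayPt} (hO : O ⊆ D1) (h0 : 0 < O.card) (h1 : O.card < 11)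
    (hi : ∀ y ∈ Y, y • O = O) : Y = Spor.M11 ⊓ stabilizer (Perm GolayPt) O := by
  refine eq_stab h hi ?_
  obtain ⟨a, ha⟩ := Finset.card_pos.1 h0
  obtain ⟨b, hb, hb'⟩ := Finset.exists_mem_notMem_of_card_lt_card (card_D1 ▸ h1)
  obtain ⟨g, hg, e⟩ := move11 (A := {a}) (B := {b}) (by simpa using hO ha) (by simpa using hb) (by simp) (by simp)
  refine ⟨g, hg, fun k => hb' ?_⟩
  have : g • a = b := by simpa using e
  exact this ▸ inv_of_smul_eq k ha

theorem small (h : Y ⋖ Spor.M11) {O : Finset GolayPt} (hO : O ⊆ D1) (h0 : 0 < O.card) (h3 : O.card ≤ 3)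
    (hi : ∀ y ∈ Y, y • O = O) : Nat.card Y ∈ [720, 660, 144, 120, 48] := by
  have h1 := card_stab hO (fun _ hg => inv_D1 hg) fun B hB hc => move11 hO hB (by omega) hc
  rw [← eq_stab11 h hO h0 (by omega) hi, card_D1, MathData.card11, n_m11] at h1
  generalize O.card = k at *
  interval_cases k <;> norm_num [Nat.choose] at h1 ⊢ <;> omega

/-- the sixth point of the hexad through five points -/
theorem sixth {F : Finset GolayPt} (hF : F ⊆ Spor.squareDodecad) (h5 : F.card = 5) :
    ∃ x ∈ Spor.squareDodecad, x ∉ F ∧ ∀ g ∈ Spor.M12, g • F = F → g • x = x := by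
  obtain ⟨K, ⟨hK, hFK⟩, hu⟩ := S0363.result.2 F h5
  have h1 : F ⊆ K ∩ Spor.squareDodecad := Finset.subset_inter hFK hF
  have h2 := Finset.card_le_card h1
  have h3 := Finset.card_sdiff_add_card_eq_card h1
  obtain ⟨x, hx⟩ := Finset.card_eq_one.1 (show ((K ∩ Spor.squareDodecad) \ F).card = 1 by
    rcases SporadicA.Dodecad.octad_inter_dodecad hK dod with e | e | e <;> omega)
  have h4 := hx.ge (Finset.mem_singleton_self x)
  refine ⟨x, (Finset.mem_inter.1 (Finset.mem_sdiff.1 h4).1).2, (Finset.mem_sdiff.1 h4).2, fun g hg e => ?_⟩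
  have h6 : g • K = K := hu _ ⟨smul_oct hg.1 hK, e ▸ Finset.smul_finset_subset_smul_finset hFK⟩
  have h7 : g • ((K ∩ Spor.squareDodecad) \ F) = (K ∩ Spor.squareDodecad) \ F := by
    rw [Finset.smul_finset_sdiff, Finset.smul_finset_inter, h6, e, show g • Spor.squareDodecad = _ from hg.2]
  simpa [hx] using h7

theorem five (h : Y ⋖ Spor.M11) {O : Finset GolayPt} (hO : O ⊆ D1) (h0 : 0 < O.card) (h5 : O.card ≤ 5)
    (hi : ∀ y ∈ Y, y • O = O) : Nat.card Y ∈ [720, 660, 144, 120, 48] := by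
  have one : ∀ x ∈ Spor.squareDodecad, x ≠ some 0 → (∀ y ∈ Y, y • x = x) → Nat.card Y ∈ [720, 660, 144, 120, 48] :=
    fun x h1 h2 h3 => small h (O := {x}) (by simp [h1, h2]) (by simp) (by simp) fun y hy => by simp only [Finset.smul_finset_singleton, h3 y hy]
  have hD := hO.trans (Finset.erase_subset _ _)
  have hz : some 0 ∉ O := fun k => by simpa using hO k
  by_cases h3 : O.card ≤ 3
  · exact small h hO h0 h3 hi
  by_cases h4 : O.card = 4
  · obtain ⟨x, h1, h2, k⟩ := sixth (F := insert (some 0) O) (Finset.insert_subset zero_dod hD) (by rw [Finset.card_insert_of_notMem hz, h4])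
    refine one x h1 (fun e => h2 (e ▸ Finset.mem_insert_self _ _)) fun y hy => k y (h.le hy).1 ?_
    rw [Finset.smul_finset_insert, hi y hy, show y • (some 0 : GolayPt) = _ from (h.le hy).2]
  obtain ⟨x, h1, -, k⟩ := sixth hD (by omega)
  by_cases hx : x = some 0
  · have h6 := card_stab (T := Spor.M12) hD (fun _ hg => inv_D hg) fun B hB hc => by
      obtain ⟨g, hg, -, e⟩ := move12 dod (F := ∅) (by simp) hD hB (by simpa using h5) hc (by simp) (by simp)
      exact ⟨g, hg, e⟩
    rw [show Spor.M12 ⊓ stabilizer (Perm GolayPt) O = Spor.M11 ⊓ stabilizer (Perm GolayPt) O from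
      le_antisymm (fun g hg => ⟨⟨hg.1, hx ▸ k g hg.1 hg.2⟩, hg.2⟩) fun g hg => ⟨hg.1.1, hg.2⟩,
      ← eq_stab11 h hO h0 (by omega) hi, dod.2, MathData.card12, n_m12, show O.card = 5 by omega] at h6
    norm_num [Nat.choose] at h6 ⊢
    omega
  · exact one x h1 hx fun y hy => k y (h.le hy).1 (hi y hy)

theorem eleven (h : Y ⋖ Spor.M11) (h11 : 11 ∣ Nat.card Y) : Nat.card Y = 660 ∨ 12 ∣ Nat.card Y := by
  obtain ⟨x, hx, ho⟩ := exists_ord (by norm_num) h11
  have hc : (Spor.squareDodecadᶜ).card = 12 := (SporadicA.Dodecad.compl_dodecad dod).2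
  have hi : ∀ g ∈ Spor.M11, ∀ c ∈ Spor.squareDodecadᶜ, g • c ∈ Spor.squareDodecadᶜ := fun g hg c hc =>
    Finset.mem_compl.2 fun k => Finset.mem_compl.1 hc (by simpa using inv_D (Spor.M12.inv_mem hg.1) _ k)
  have h1 := fxs_mod' (by norm_num) ho (hi x (h.le hx))
  have h2 := fxs11 (h.le hx).1.1 ho Spor.squareDodecadᶜ
  obtain ⟨p, hp⟩ := Finset.card_eq_one.1 (show (fxs (zpowers x) Spor.squareDodecadᶜ).card = 1 by omega)
  have h3 := mem_fxs.1 (hp.ge (Finset.mem_singleton_self p))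
  have tr : ∀ q ∈ Spor.squareDodecadᶜ, ∃ g ∈ Spor.M11, g • p = q := fun q hq => by
    obtain ⟨g, hg, -, e⟩ := move_of_trans (G := Spor.M11) (D := Spor.squareDodecadᶜ) (k := 3) (by omega) (fun a b ha hb => by
      obtain ⟨g, hg, e⟩ := S0389.result _ dod _ zero_dod a b (fun i => Finset.mem_compl.1 (ha i)) fun i => Finset.mem_compl.1 (hb i)
      exact ⟨g, ⟨⟨g.2, hg.1⟩, hg.2⟩, e⟩) (F := ∅) (A := {p}) (B := {q}) (by simp) (by simpa using h3.1) (by simpa using hq) (by simp)
      (by simp) (by simp) (by simp)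
    exact ⟨g, hg, by simpa using e⟩
  by_cases hf : ∀ y ∈ Y, y • p = p
  · obtain ⟨q, hq, hq'⟩ := Finset.exists_mem_ne (show 1 < (Spor.squareDodecadᶜ).card by omega) p
    have h4 := card_orb Spor.M11 p
    rw [← eq_stab h hf ((tr q hq).imp fun g ⟨k1, k2⟩ => ⟨k1, fun k => hq' (k2.symm.trans k)⟩), MathData.card11, n_m11,
      Finset.Subset.antisymm (orb_subset h3.1 hi) fun q hq => mem_orb.2 (tr q hq), hc] at h4
    omega
  · push Not at hf
    obtain ⟨y, hy, hy'⟩ := hf
    have h4 := orb_subset (U := Y) h3.1 fun u hu => hi u (h.le hu)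
    have h5 := fxs_mod' (by norm_num) ho (A := orb Y p) fun a ha => smul_orb hx ha
    have h6 := Finset.card_le_card (fxs_mono (zpowers x) h4)
    have h7 : 0 < (fxs (zpowers x) (orb Y p)).card := Finset.card_pos.2 ⟨p, mem_fxs.2 ⟨self_orb _ _, h3.2⟩⟩
    have h8 := Finset.card_le_card h4
    have h9 : 1 < (orb Y p).card := Finset.one_lt_card.2 ⟨_, smul_orb hy (self_orb _ _), _, self_orb _ _, hy'⟩
    rw [hp, Finset.card_singleton] at h6
    exact .inr (Dvd.intro_left _ (by rw [← card_orb Y p, show (orb Y p).card = 12 by omega]))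

end B1

open Cfsg Equiv Subgroup MulAction Cfsg.Agent.H940.Eng Cfsg.Agent.H940.Eng.D Cfsg.Agent.H715.Fpr B1
open scoped Pointwise

theorem boxMax11 : BoxMax11 := fun X hX => by
  have h : X.map Spor.M11.subtype ⋖ Spor.M11 := by
    have := covBy_map Spor.M11.subtype_injective hX.covBy_top
    rwa [← MonoidHom.range_eq_map, range_subtype] at this
  have hc := card_map_of_injective (K := X) Spor.M11.subtype_injective
  by_cases h11 : 11 ∣ Nat.card X
  · rcases eleven h (hc ▸ h11) with e | e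
    · rw [← hc, e]; decide
    · rcases (M11.ctx base).over [(2, 2), (3, 1), (5, 1)] [12] [] 30 (by decide +kernel) h11 (hc ▸ e) (by simp) with k | k
      · exact (hX.1 k).elim
      · have := X.card_mul_index
        rw [MathData.card11, n_m11, List.mem_singleton.1 k] at this
        simp [show Nat.card X = 660 by omega]
  rw [← hc] at h11 ⊢
  generalize X.map Spor.M11.subtype = Y at *
  obtain ⟨a, ha⟩ := Finset.card_pos.1 (show 0 < D1.card by rw [card_D1]; omega)
  have hi : ∀ u ∈ Y, ∀ c ∈ D1, u • c ∈ D1 := fun u hu => inv_D1 (h.le hu)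
  have h1 := orb_subset ha hi
  have h2 := Finset.card_sdiff_add_card_eq_card h1
  have h3 : (orb Y a).card ≠ 11 := fun e => h11 (Dvd.intro_left _ (by rw [← card_orb Y a, e]))
  have h4 : 0 < (orb Y a).card := Finset.card_pos.2 ⟨a, self_orb _ _⟩
  rw [card_D1] at h2
  by_cases h5 : (orb Y a).card ≤ 5
  · exact five h h1 h4 h5 fun y hy => smul_eq_of_inv fun c hc => smul_orb hy hc
  · exact five h (Finset.sdiff_subset (t := orb Y a)) (by omega) (by omega) fun y hy =>
      smul_eq_of_inv (inv_sdiff hi (fun u hu c hc => smul_orb hu hc) y hy)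

theorem boxNo22 : BoxNo22 := fun U hU => by
  have := Fact.mk Nat.prime_three
  let φ : U →* Perm GolayPt := Spor.M22.subtype.comp U.subtype
  have hφ : Function.Injective φ := Spor.M22.subtype_injective.comp U.subtype_injective
  have hs : IsSimpleGroup U := S2490.result hU ⟨{11}, ⟨11, rfl, by norm_num, by rw [hU]; norm_num⟩,
    ⟨2, by simp, by norm_num, by rw [hU]; norm_num⟩, by
      rintro _ rfl b hb - hp - - ⟨g, hg⟩
      let x : M24 := ⟨φ g, g.1.2.1.1⟩
      have h1 : orderOf x = 11 * b := by rw [← hg, ← orderOf_injective φ hφ g]; exact (orderOf_injective M24.subtype M24.subtype_injective x).symm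
      have h2 := MathData.cent11 (x := x ^ b) (by rw [orderOf_pow' _ hp.ne_zero, h1, Nat.gcd_mul_left_left, Nat.mul_div_cancel _ hp.pos])
      have h3 := (centralizer ({x ^ b} : Set M24)).orderOf_dvd_natCard (x := x)
        (mem_centralizer_singleton_iff.2 ((Commute.refl x).pow_right b))
      rw [h1, h2] at h3
      have := Nat.le_of_dvd (by norm_num) h3
      have := hp.two_le
      omega⟩
  obtain ⟨P⟩ : Nonempty (Sylow 3 U) := inferInstance
  have hN := S0434.result ⟨hs, hU⟩ P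
  have hP : Nat.card P = 9 := by
    rw [P.card_eq_multiplicity, hU, show 7920 = 3 ^ 2 * 880 by norm_num, Nat.factorization_mul (by norm_num) (by norm_num),
      Nat.prime_three.factorization_pow, Finsupp.add_apply, Nat.factorization_eq_zero_of_not_dvd (by norm_num)]
    simp
  let F : Finset GolayPt := {none, some 0}
  have hF : ∀ u : U, ∀ c ∈ F, u • c = c := fun u c hc => by
    rcases Finset.mem_insert.1 hc with rfl | hc
    exacts [u.1.2.1.2, Finset.mem_singleton.1 hc ▸ u.1.2.2]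
  have hE : ∀ u : U, ∀ c ∈ Fᶜ, u • c ∈ Fᶜ := fun u c hc => Finset.mem_compl.2 fun k =>
    Finset.mem_compl.1 hc (MulAction.injective u (hF u _ k) ▸ k)
  have cF : F.card = 2 := rfl
  have cE : Fᶜ.card = 22 := rfl
  have un : ∀ Q : Subgroup U, (fxs Q Fᶜ).card + 2 ≤ (fxs (Q.map φ) Finset.univ).card := fun Q => by
    rw [← cF, ← Finset.card_union_of_disjoint (Finset.disjoint_left.2 fun c hc => Finset.mem_compl.1 (fxs_subset _ _ hc))]
    refine Finset.card_le_card fun c hc => mem_fxs.2 ⟨Finset.mem_univ _, ?_⟩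
    rintro _ ⟨u, hu, rfl⟩
    exact (Finset.mem_union.1 hc).elim (fun k => (mem_fxs.1 k).2 u hu) (hF u c)
  have h1 : (fxs (P : Subgroup U) Fᶜ).card ≤ 1 := by
    by_contra k
    have := card_dvd_of_fix (U := (P : Subgroup U).map φ) (by rintro _ ⟨u, -, rfl⟩; exact u.1.2.1.1)
      (F := fxs ((P : Subgroup U).map φ) Finset.univ) (fun u hu a ha => (mem_fxs.1 ha).2 u hu) (k := 4) (m := 960) (by omega)
      (by have := un P; omega) (by decide +kernel)
    rw [card_map_of_injective hφ, hP] at this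
    omega
  have h2 := fxs_mod Nat.prime_three P.isPGroup' (A := Fᶜ) fun g _ => hE g
  obtain ⟨a, ha⟩ := Finset.card_eq_one.1 (show (fxs (P : Subgroup U) Fᶜ).card = 1 by omega)
  have h3 := mem_fxs.1 (ha.ge (Finset.mem_singleton_self a))
  have h4 : normalizer ((P : Subgroup U) : Set U) ≤ ⊤ ⊓ stabilizer U a := fun g hg => ⟨trivial, Finset.mem_singleton.1 (ha.le
    (mem_fxs.2 ⟨hE g a h3.1, fun u hu => by
      rw [← mul_smul, show u * g = g * (g⁻¹ * u * g⁻¹⁻¹) by group, mul_smul,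
        h3.2 _ ((mem_normalizer_iff.1 (inv_mem hg) u).1 hu)]⟩))⟩
  have h5 := card_orb (⊤ : Subgroup U) a
  obtain ⟨m, hm⟩ := card_dvd_of_le h4
  rw [hm, hN, card_top, hU] at h5
  have h6 := orb_subset (U := (⊤ : Subgroup U)) h3.1 fun u _ => hE u
  have h7 := Finset.card_le_card h6
  have h8 := fxs_mod Nat.prime_three P.isPGroup' (A := orb (⊤ : Subgroup U) a) fun g _ c hc => smul_orb (mem_top g) hc
  have h9 := Finset.card_le_card (fxs_mono (P : Subgroup U) h6)
  obtain ⟨x, -, hx⟩ := exists_ord (U := (⊤ : Subgroup U)) (p := 11) (by norm_num) (by rw [card_top, hU]; norm_num)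
  have k1 := un (zpowers x)
  have k2 := fxs11 (g := φ x) x.1.2.1.1 (by rw [orderOf_injective φ hφ, hx]) Finset.univ
  rw [MonoidHom.map_zpowers] at k1
  have k3 : 11 ≤ (orb (⊤ : Subgroup U) a).card := by
    by_contra k
    have : 0 < (fxs (zpowers x) Fᶜ).card := Finset.card_pos.2 ⟨a, mem_fxs_zpowers.2 ⟨h3.1,
      fix_of_lt (by norm_num) hx (A := orb (⊤ : Subgroup U) a) (fun c hc => smul_orb (mem_top x) hc) (by omega) (self_orb _ a)⟩⟩
    omega
  have k4 : (orb (⊤ : Subgroup U) a).card ∣ 55 := Dvd.intro_left m (by nlinarith)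
  generalize (orb (⊤ : Subgroup U) a).card = n at *
  rw [cE] at h7
  interval_cases n <;> omega

end Cfsg.Agent.SM.Mat
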