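import Cfsg.Agent.SM.Mat.B2a
import Cfsg.Agent.SM.Mat.Box
import Cfsg.Agent.S2061
import Cfsg.Agent.S5620

/-!
# SM (S3570): the boxes `BoxDuad12`, `BoxAut12`, `BoxIdx12` on `M12` (helper51)
-/

set_option autoImplicit false
set_option linter.unusedSectionVars false
set_option linter.unusedVariables false
set_option linter.style.haveILetI false

namespace Cfsg.Agent.SM.Mat

open Cfsg Equiv Subgroup MulAction
open scoped Pointwise

namespace B2

theorem compl_smul {g : Perm GolayPt} {A B : Finset GolayPt} (h : g • A = B) : g • Aᶜ = Bᶜ := by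
  ext p
  rw [← h, Finset.mem_compl, ← Finset.inv_smul_mem_iff, ← Finset.inv_smul_mem_iff, Finset.mem_compl]

theorem sh_of {d : Finset GolayPt} (hd : d ∈ dodecads) (e : ∀ g : Perm GolayPt, g • d = d ↔ g • Spor.squareDodecad = Spor.squareDodecad) :
    Sh Spor.M12 d where
  card := hd.2
  inv g a ha := inv_of_smul_eq (u := (g : Perm GolayPt)) ((e g).2 g.2.2) ha
  move {F p q} hF h4 hp hq := by
    rw [Finset.mem_sdiff] at hp hq
    obtain ⟨g, hg, h1, h2⟩ := move12 hd (A := {p}) (B := {q}) hF (Finset.singleton_subset_iff.2 hp.1)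
      (Finset.singleton_subset_iff.2 hq.1) (by rw [Finset.card_singleton]; omega) rfl
      (Finset.disjoint_singleton_left.2 hp.2) (Finset.disjoint_singleton_left.2 hq.2)
    refine ⟨⟨g, hg.1, (e g).1 hg.2⟩, h1, ?_⟩
    rw [Finset.smul_finset_singleton, Finset.singleton_inj] at h2
    exact h2
  fix {g F} hF h5 h := Subtype.ext (fix12 hd g.2.1 ((e g).2 g.2.2) hF h5 h)

theorem shD : Sh Spor.M12 Spor.squareDodecad := sh_of dod fun _ => Iff.rfl

theorem shC : Sh Spor.M12 Spor.squareDodecadᶜ :=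
  sh_of (SporadicA.Dodecad.compl_dodecad dod) fun _ => ⟨fun h => by simpa using compl_smul h, compl_smul⟩

theorem card_of_index {Y : Subgroup Spor.M12} {n m : ℕ} (h : Y.index = n) (hn : 0 < n) (e : m * n = 95040) : Nat.card Y = m := by
  have := Y.card_mul_index
  rw [h, shD.card_eq, ← e] at this
  exact Nat.eq_of_mul_eq_mul_right hn this

/-- a subgroup of order `1440` does not fix two disjoint pairs -/
theorem no_two {Y : Subgroup Spor.M12} (hY : Nat.card Y = 1440) {A B : Finset GolayPt} (cA : A.card = 2) (cB : B.card = 2)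
    (dj : Disjoint A B) (hA : ∀ y ∈ Y, ∀ a ∈ A, y • a ∈ A) (hB : ∀ y ∈ Y, ∀ a ∈ B, y • a ∈ B) : False := by
  haveI : Fact (Nat.Prime 3) := ⟨Nat.prime_three⟩
  obtain ⟨K, hK⟩ := Sylow.exists_subgroup_card_pow_prime (G := Y) 3 (n := 2) (by rw [hY]; decide)
  have h1 : Nat.card (K.map Y.subtype) = 3 ^ 2 := by rw [card_map_of_injective Y.subtype_injective, hK]
  have h2 : K.map Y.subtype ≤ Y := map_subtype_le K
  generalize K.map Y.subtype = R at h1 h2
  have h3 : ∀ {C : Finset GolayPt}, C.card = 2 → (∀ y ∈ Y, ∀ a ∈ C, y • a ∈ C) → ∀ r ∈ R, ∀ a ∈ C, r • a = a :=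
    fun {C} cC hC r hr a ha => by
      have k1 := fxs_mod Nat.prime_three (IsPGroup.of_card h1) fun g hg => hC g (h2 hg)
      have k2 := Finset.card_le_card (fxs_subset R C)
      rw [← Finset.eq_of_subset_of_card_le (fxs_subset R C) (by omega)] at ha
      exact (mem_fxs.1 ha).2 r hr
  have h4 := card_dvd_of_fix (U := R.map Spor.M12.subtype) (F := A ∪ B) (k := 4) (m := 960)
    (by rintro _ ⟨r, -, rfl⟩; exact r.2.1)
    (by
      rintro _ ⟨r, hr, rfl⟩ a ha
      exact (Finset.mem_union.1 ha).elim (h3 cA hA r hr a) (h3 cB hB r hr a))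
    (by omega) (by rw [Finset.card_union_of_disjoint dj]; omega) (by decide +kernel)
  rw [card_map_of_injective Spor.M12.subtype_injective, h1] at h4
  exact absurd h4 (by decide)

end B2

open B2

theorem boxIdx12 : BoxIdx12 := fun Y =>
  ⟨fun h => shD.no_idx (by rw [h]; decide) (Or.inr (card_of_index h (by omega) rfl)),
    fun h => shD.no_idx (by rw [h]; decide) (Or.inl (card_of_index h (by omega) rfl))⟩

theorem boxDuad12 : BoxDuad12 := by
  intro Y hi
  have hY : Nat.card Y = 1440 := card_of_index hi (by omega) rfl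
  by_cases t1 : ∀ a ∈ Spor.squareDodecad, orb Y a = Spor.squareDodecad
  swap
  · push Not at t1
    obtain ⟨a, ha, ho⟩ := t1
    obtain ⟨A, h1, h2, h3⟩ := shD.intrans hY ha ho
    exact ⟨A, h2, Or.inl h1, h3⟩
  by_cases t2 : ∀ a ∈ Spor.squareDodecadᶜ, orb Y a = Spor.squareDodecadᶜ
  swap
  · push Not at t2
    obtain ⟨a, ha, ho⟩ := t2
    obtain ⟨A, h1, h2, h3⟩ := shC.intrans hY ha ho
    exact ⟨A, h2, Or.inr h1, h3⟩
  exfalso
  obtain ⟨O, hO, cO, iO⟩ := (shD.orbits hY t1 zero_dod).2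
  obtain ⟨K, ⟨hK, hOK⟩, -⟩ := S0363.result.2 O cO
  have k1 := Finset.card_le_card (Finset.subset_inter hOK hO)
  have k2 := SporadicA.Dodecad.octad_inter_dodecad hK dod
  have k3 := Finset.card_sdiff_add_card_inter K Spor.squareDodecad
  have k4 : K.card = 8 := hK.2
  refine shC.no_pair hY t2 inf_le_left (shD.card_stab hY t1 zero_dod) (A := K \ Spor.squareDodecad)
    (fun a ha => Finset.mem_compl.2 (Finset.mem_sdiff.1 ha).2) (by omega) (inv_sdiff (fun u hu c hc => ?_) fun u _ => shD.inv u)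
  have k5 : (u : Perm GolayPt) • K = K :=
    SporadicA.Dodecad.octad_eq_of_five (smul_oct u.2.1 hK) hK cO.ge (by
      have : (u : Perm GolayPt) • O = O := smul_eq_of_inv (iO u hu)
      rw [← this]
      exact Finset.smul_finset_subset_smul_finset hOK) hOK
  exact inv_of_smul_eq k5 hc

theorem boxAut12 : BoxAut12 := by
  intro Y θ hi hθ
  have hY : Nat.card Y = 1440 := card_of_index hi (by omega) rfl
  obtain ⟨δ, cδ, hδ, hs⟩ := boxDuad12 Y hi
  obtain ⟨g, hg, e1, -⟩ := S5620.result.2.2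
  rw [← Finset.compl_eq_univ_sdiff] at e1
  have sw : ∀ s : Perm GolayPt, s • Spor.squareDodecad = Spor.squareDodecadᶜ →
      (∀ y ∈ Y, ∃ y' ∈ Y, s * (y : Perm GolayPt) * s⁻¹ = (y' : Spor.M12)) → False := fun s h1 h2 => by
    have h3 : s • Spor.squareDodecadᶜ = Spor.squareDodecad := by simpa using compl_smul h1
    refine no_two hY cδ (B := s⁻¹ • δ) (by rw [Finset.card_smul_finset, cδ]) (Finset.disjoint_left.2 fun a a1 a2 => ?_)
      (fun y hy a ha => inv_of_smul_eq (u := (y : Perm GolayPt)) ((hs y).1 hy) ha) fun y hy a ha => ?_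
    · rw [← Finset.inv_smul_mem_iff, inv_inv] at a2
      rcases hδ with h | h
      · exact Finset.mem_compl.1 (h1 ▸ Finset.smul_mem_smul_finset (h a1) : s • a ∈ Spor.squareDodecadᶜ) (h a2)
      · exact Finset.mem_compl.1 (h a2) (h3 ▸ Finset.smul_mem_smul_finset (h a1) : s • a ∈ Spor.squareDodecad)
    · obtain ⟨y', hy', e⟩ := h2 y hy
      rw [← Finset.inv_smul_mem_iff, inv_inv] at ha ⊢
      have := inv_of_smul_eq ((hs y').1 hy') ha
      rwa [← e, mul_smul, mul_smul, inv_smul_smul] at this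
  have e2 : g • Spor.squareDodecadᶜ = Spor.squareDodecad := by simpa using compl_smul e1
  have nm : ∀ s ∈ M24, s • Spor.squareDodecad = Spor.squareDodecadᶜ → s • Spor.squareDodecadᶜ = Spor.squareDodecad →
      ∀ x ∈ Spor.M12, s * x * s⁻¹ ∈ Spor.M12 := fun s hs1 hs2 hs3 x hx =>
    ⟨M24.mul_mem (M24.mul_mem hs1 hx.1) (M24.inv_mem hs1), by
      show (s * x * s⁻¹) • Spor.squareDodecad = Spor.squareDodecad
      rw [mul_smul, mul_smul, inv_smul_eq_iff.2 hs3.symm, compl_smul hx.2, hs3]⟩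
  let σ : MulAut Spor.M12 :=
    { toFun := fun x => ⟨g * x * g⁻¹, nm g hg e1 e2 x x.2⟩
      invFun := fun x => ⟨g⁻¹ * x * g⁻¹⁻¹,
        nm g⁻¹ (M24.inv_mem hg) (inv_smul_eq_iff.2 e2.symm) (inv_smul_eq_iff.2 e1.symm) x x.2⟩
      left_inv := fun x => Subtype.ext (by simp [mul_assoc])
      right_inv := fun x => Subtype.ext (by simp [mul_assoc])
      map_mul' := fun x y => Subtype.ext (by simp [mul_assoc]) }
  have hσ : ∀ x : Spor.M12, ((σ x : Spor.M12) : Perm GolayPt) = g * x * g⁻¹ := fun _ => rfl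
  have ks : ∀ k : Spor.M12, ((k : Perm GolayPt) * g) • Spor.squareDodecad = Spor.squareDodecadᶜ := fun k => by
    rw [mul_smul, e1, compl_smul k.2.2]
  have h0 : (Cfsg.Inn Spor.M12).index = 2 := S2061.result
  by_contra hn
  have n1 : θ ∉ Cfsg.Inn Spor.M12 := fun ⟨u, hu⟩ => hn ⟨u, hu.symm⟩
  have n2 : σ ∉ Cfsg.Inn Spor.M12 := fun ⟨u, hu⟩ => sw _ (ks u⁻¹) fun y hy => ⟨y, hy, by
    have h1 : σ y = u * y * u⁻¹ := by rw [← hu]; rfl
    have h2 := hσ y
    rw [h1] at h2
    have h3 : ((u⁻¹ : Spor.M12) : Perm GolayPt) * g * y * (((u⁻¹ : Spor.M12) : Perm GolayPt) * g)⁻¹ =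
        ((u⁻¹ : Spor.M12) : Perm GolayPt) * (g * y * g⁻¹) * ((u⁻¹ : Spor.M12) : Perm GolayPt)⁻¹ := by group
    rw [h3, ← h2]
    simp [mul_assoc]⟩
  obtain ⟨u, hu⟩ : θ * σ⁻¹ ∈ Cfsg.Inn Spor.M12 := by
    rw [mul_mem_iff_of_index_two h0, inv_mem_iff]
    exact iff_of_false n1 n2
  refine sw _ (ks u) fun y hy => ⟨θ y, hθ y hy, ?_⟩
  have h1 : θ y = u * σ y * u⁻¹ := by
    have := DFunLike.congr_fun hu (σ y)
    rw [MulAut.mul_apply, MulAut.inv_apply_self] at this
    exact this.symm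
  rw [h1, coe_mul, coe_mul, hσ, coe_inv]
  group

end Cfsg.Agent.SM.Mat
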