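import Cfsg.Agent.SM.Mat.Pre
import Cfsg.Agent.SM.Mat.B1
import Cfsg.Agent.SM.Mat.B2

/-!
# SM (S3570): the box of the Mathieu groups (helper55)
-/

set_option autoImplicit false

namespace Cfsg.Agent.SM.Mat

/-- **the Mathieu groups as socles of the overgroups** -/
theorem boxMat : BoxMat := boxMat_of boxMax11 boxIdx12 boxAut12 boxDuad12 boxNo22

end Cfsg.Agent.SM.Mat
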