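import Cfsg.Agent.SM.Defs

/-!
# SM (S3570): the table of the rows with a Mathieu group as socle `S` (helper55)
-/

set_option autoImplicit false

namespace Cfsg.Agent.SM.Mat

open Cfsg

/-- the five Mathieu groups -/
def fMat : Fam := fun S _ => Spor.IsoM11 S ∨ Spor.IsoM12 S ∨ Spor.IsoM22 S ∨ Spor.IsoM23 S ∨ Spor.IsoM24 S

/-- the rows `(|T|, n, k)`: `L2(11) < M11` on 11 points, `L2(11), M11 < M12` on 12 points, `L2(23) < M24` on 24 points,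
`M23 < M24` on 1288, 1771, 40320 points -/
def rMat : Tab := fun t n k =>
  (t = 660 ∧ n = 11 ∧ k = 2) ∨ (t = 660 ∧ n = 12 ∧ k = 2) ∨ (t = 7920 ∧ n = 12 ∧ k = 2) ∨ (t = 6072 ∧ n = 24 ∧ k = 2) ∨
    (t = 10200960 ∧ n = 1288 ∧ k = 1) ∨ (t = 10200960 ∧ n = 1771 ∧ k = 1) ∨ (t = 10200960 ∧ n = 40320 ∧ k = 1)

/-- the box of the Mathieu groups (`SM/Mat/Main.lean`) -/
def BoxMat : Prop := Bnd fMat rMat

end Cfsg.Agent.SM.Mat
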