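import Cfsg.Agent.SM.Mat.Geo

/-!
# SM (S3570): subgroups of a group which is sharply 5-transitive on twelve points (helper51)

`Sh G d`.  `no_idx`: no subgroup of order `576` or `1728`; `intrans`: an intransitive subgroup of order `1440` is the
stabiliser of a pair; `five`, `orb_ge`: the point stabiliser of a transitive one has the orbits `1 + 5 + 6`.
-/

set_option autoImplicit false
set_option linter.unusedSectionVars false
set_option linter.unusedVariables false
set_option linter.style.haveILetI false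

namespace Cfsg.Agent.SM.Mat.B2

open Cfsg Equiv Subgroup MulAction
open scoped Pointwise

variable {G : Type} [Group G] [Finite G] {β : Type} [MulAction G β] [Fintype β] [DecidableEq β]

/-- sharply 5-transitive on the twelve points of `d` -/
structure Sh (G : Type) [Group G] [MulAction G β] (d : Finset β) : Prop where
  card : d.card = 12
  inv : ∀ g : G, ∀ a ∈ d, g • a ∈ d
  move : ∀ {F : Finset β} {p q : β}, F ⊆ d → F.card ≤ 4 → p ∈ d \ F → q ∈ d \ F →
    ∃ g : G, (∀ u ∈ F, g • u = u) ∧ g • p = q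
  fix : ∀ {g : G} {F : Finset β}, F ⊆ d → 5 ≤ F.card → (∀ a ∈ F, g • a = a) → g = 1

/-- the pointwise stabiliser -/
def fx (G : Type) [Group G] [MulAction G β] (F : Finset β) : Subgroup G := fixingSubgroup G (F : Set β)

theorem mem_fx {F : Finset β} {g : G} : g ∈ fx G F ↔ ∀ a ∈ F, g • a = a := mem_fixingSubgroup_iff G

theorem fx_insert (F : Finset β) (b : β) : fx G (insert b F) = fx G F ⊓ stabilizer G b := by
  ext g
  rw [mem_inf, mem_fx, mem_fx, mem_stabilizer_iff, Finset.forall_mem_insert, and_comm]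

theorem fx_anti {A B : Finset β} (h : A ⊆ B) : fx G B ≤ fx G A := fun g hg => mem_fx.2 fun a ha => mem_fx.1 hg a (h ha)

theorem conj_fx {y g : G} {T : Finset β} (hg : g ∈ fx G (y • T)) : y⁻¹ * g * y ∈ fx G T := mem_fx.2 fun a ha => by
  rw [mul_smul, mul_smul, mem_fx.1 hg _ (Finset.smul_mem_smul_finset ha), inv_smul_smul]

theorem full_smul {Y : Subgroup G} {y : G} (hy : y ∈ Y) {T : Finset β} (h : fx G T ≤ Y) : fx G (y • T) ≤ Y := fun g hg => by
  have := Y.mul_mem (Y.mul_mem hy (h (conj_fx hg))) (Y.inv_mem hy)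
  simpa [mul_assoc] using this

theorem card_le_inv' : ∀ (n : ℕ) (A : Finset β) (U : Subgroup G), A.card = n → (∀ u ∈ U, ∀ a ∈ A, u • a ∈ A) →
    Nat.card U ≤ n.factorial * Nat.card ↥(U ⊓ fx G A) := by
  intro n
  induction n with
  | zero =>
    intro A U hn _
    rw [Finset.card_eq_zero.1 hn, Nat.factorial_zero, one_mul]
    exact card_le_of_le fun g hg => ⟨hg, mem_fx.2 (by simp)⟩
  | succ n ih =>
    intro A U hn hA
    obtain ⟨b, hb⟩ : A.Nonempty := Finset.card_pos.1 (by omega)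
    have h1 := card_orb U b
    have h2 := Finset.card_le_card (orb_subset hb hA)
    have h3 := ih (A.erase b) (U ⊓ stabilizer G b) (by rw [Finset.card_erase_of_mem hb]; omega) fun u hu a ha => by
      rw [Finset.mem_erase] at ha ⊢
      refine ⟨fun e => ha.1 (smul_left_cancel u (e.trans (mem_stabilizer_iff.1 hu.2).symm)), hA u hu.1 a ha.2⟩
    have h4 : U ⊓ stabilizer G b ⊓ fx G (A.erase b) ≤ U ⊓ fx G A := fun g hg => ⟨hg.1.1, mem_fx.2 fun a ha => by
      by_cases e : a = b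
      · rw [e]; exact hg.1.2
      · exact mem_fx.1 hg.2 a (Finset.mem_erase.2 ⟨e, ha⟩)⟩
    rw [← h1, Nat.factorial_succ, mul_assoc, mul_comm (n + 1)]
    exact Nat.mul_le_mul (h3.trans (Nat.mul_le_mul_left _ (card_le_of_le h4))) (hn ▸ h2)

theorem card_le_inv {n : ℕ} {A : Finset β} {U : Subgroup G} (hn : A.card = n) (hA : ∀ u ∈ U, ∀ a ∈ A, u • a ∈ A) :
    Nat.card U ≤ n.factorial * Nat.card (fx G A) :=
  (card_le_inv' n A U hn hA).trans (Nat.mul_le_mul_left _ (card_le_of_le inf_le_right))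

theorem orb_trans {U : Subgroup G} {b c : β} (h : c ∈ orb U b) : orb U c ⊆ orb U b :=
  orb_subset h fun _ hu _ hc => smul_orb hu hc

theorem card_orb_dvd {U Y : Subgroup G} (h : U ≤ Y) (b : β) : (orb U b).card ∣ Nat.card Y :=
  (Dvd.intro_left _ (card_orb U b)).trans (card_dvd_of_le h)

variable {d : Finset β}

namespace Sh

theorem smul_sub (h : Sh G d) (g : G) {T : Finset β} (hT : T ⊆ d) : g • T ⊆ d := fun c hc => by
  obtain ⟨a, ha, rfl⟩ := Finset.mem_smul_finset.1 hc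
  exact h.inv g a (hT ha)

theorem sub_orb (h : Sh G d) {F : Finset β} (hF : F ⊆ d) (h4 : F.card ≤ 4) {U : Subgroup G} (hU : fx G F ≤ U) {p : β}
    (hp : p ∈ d \ F) : d \ F ⊆ orb U p := fun q hq => by
  obtain ⟨g, h1, h2⟩ := h.move hF h4 hp hq
  exact mem_orb.2 ⟨g, hU (mem_fx.2 h1), h2⟩

theorem orb_sub (h : Sh G d) {F : Finset β} {U : Subgroup G} (hU : ∀ u ∈ U, ∀ a ∈ F, u • a ∈ F) {p : β} (hp : p ∈ d \ F) :
    orb U p ⊆ d \ F :=
  orb_subset hp (inv_sdiff (fun u _ => h.inv u) hU)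

theorem card_fx (h : Sh G d) : ∀ (k : ℕ) (F : Finset β), F ⊆ d → F.card + k = 5 →
    Nat.card (fx G F) = Nat.ascFactorial 8 k := by
  intro k
  induction k with
  | zero =>
    intro F hF hk
    rw [Nat.ascFactorial_zero, card_eq_one, eq_bot_iff]
    exact fun g hg => h.fix hF (by omega) (mem_fx.1 hg)
  | succ k ih =>
    intro F hF hk
    have h1 := Finset.card_sdiff_add_card_eq_card hF
    rw [h.card] at h1
    obtain ⟨b, hb⟩ : (d \ F).Nonempty := Finset.card_pos.1 (by omega)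
    have h2 : orb (fx G F) b = d \ F :=
      (h.orb_sub (fun u hu a ha => by rw [mem_fx.1 hu a ha]; exact ha) hb).antisymm (h.sub_orb hF (by omega) le_rfl hb)
    have h3 := card_orb (fx G F) b
    rw [h2, ← fx_insert, ih _ (Finset.insert_subset (Finset.mem_sdiff.1 hb).1 hF)
      (by rw [Finset.card_insert_of_notMem (Finset.mem_sdiff.1 hb).2]; omega)] at h3
    rw [← h3, Nat.ascFactorial_succ, mul_comm, show (d \ F).card = 8 + k by omega]

theorem card_eq (h : Sh G d) : Nat.card G = 95040 := by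
  have h1 := h.card_fx 5 ∅ (Finset.empty_subset _) rfl
  have h2 : fx G (∅ : Finset β) = ⊤ := eq_top_iff.2 fun g _ => mem_fx.2 (by simp)
  rw [h2, card_top] at h1
  exact h1

theorem fxs_le (h : Sh G d) {g : G} (hg : g ≠ 1) : (fxs (zpowers g) d).card ≤ 4 := by
  by_contra hlt
  exact hg (h.fix (fxs_subset _ _) (by omega) fun a ha => (mem_fxs_zpowers.1 ha).2)

/-! ### the orders `576` and `1728` -/

theorem three (h : Sh G d) {Y : Subgroup G} (h5 : ¬ 10 ∣ Nat.card Y) (h11 : ¬ 11 ∣ Nat.card Y) {I J : Finset β} (hI : I ⊆ d)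
    (hJ : J ⊆ d) (cI : I.card = 3) (cJ : J.card = 3) (fI : fx G I ≤ Y) (fJ : fx G J ≤ Y) : I = J := by
  by_contra hne
  obtain ⟨q, hq1, hq2⟩ : ∃ q ∈ I, q ∉ J := by
    by_contra hn
    push Not at hn
    exact hne (Finset.eq_of_subset_of_card_le hn (by omega))
  obtain ⟨x, hx, hxq⟩ := Finset.exists_mem_ne (s := I) (by omega) q
  obtain ⟨p, hp, hp'⟩ : ∃ p ∈ d, p ∉ I ∪ J :=
    Finset.exists_mem_notMem_of_card_lt_card (by have := Finset.card_union_le I J; have := h.card; omega)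
  rw [Finset.mem_union, not_or] at hp'
  have a1 : d \ I ⊆ orb (Y ⊓ stabilizer G x) p :=
    h.sub_orb hI (by omega) (le_inf fI fun g hg => mem_fx.1 hg x hx) (Finset.mem_sdiff.2 ⟨hp, hp'.1⟩)
  have a2 : d \ insert x J ⊆ orb (Y ⊓ stabilizer G x) p :=
    h.sub_orb (Finset.insert_subset (hI hx) hJ) (by have := Finset.card_insert_le x J; omega)
      (by rw [fx_insert]; exact inf_le_inf_right _ fJ)
      (Finset.mem_sdiff.2 ⟨hp, by rw [Finset.mem_insert, not_or]; exact ⟨fun e => hp'.1 (e ▸ hx), hp'.2⟩⟩)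
  have a3 : orb (Y ⊓ stabilizer G x) p ⊆ d \ {x} :=
    h.orb_sub (fun u hu a ha => by rw [Finset.mem_singleton] at ha ⊢; rw [ha]; exact hu.2)
      (Finset.mem_sdiff.2 ⟨hp, fun e => hp'.1 (Finset.mem_singleton.1 e ▸ hx)⟩)
  have a4 : insert q (d \ I) ⊆ orb (Y ⊓ stabilizer G x) p :=
    Finset.insert_subset (a2 (Finset.mem_sdiff.2 ⟨hI hq1, by rw [Finset.mem_insert, not_or]; exact ⟨hxq.symm, hq2⟩⟩)) a1
  have b1 := Finset.card_le_card a3
  have b2 := Finset.card_le_card a4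
  rw [Finset.card_insert_of_notMem (fun e => (Finset.mem_sdiff.1 e).2 hq1)] at b2
  have b3 := Finset.card_sdiff_add_card_eq_card hI
  have b4 := Finset.card_sdiff_add_card_eq_card (Finset.singleton_subset_iff.2 (hI hx))
  rw [Finset.card_singleton] at b4
  have b5 := card_orb_dvd (inf_le_left : Y ⊓ stabilizer G x ≤ Y) p
  have b6 := h.card
  rcases (by omega : (orb (Y ⊓ stabilizer G x) p).card = 10 ∨ (orb (Y ⊓ stabilizer G x) p).card = 11) with e | e
  · exact h5 (e ▸ b5)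
  · exact h11 (e ▸ b5)

theorem four (h : Sh G d) {Y : Subgroup G} (h5 : ¬ 10 ∣ Nat.card Y) (h11 : ¬ 11 ∣ Nat.card Y) (hb : 432 < Nat.card Y)
    {T V : Finset β} (hT : T ⊆ d) (hV : V ⊆ d) (cT : T.card = 4) (cV : V.card = 4) (fT : fx G T ≤ Y) (fV : fx G V ≤ Y)
    {a : β} (a1 : a ∈ T) (a2 : a ∈ V) : T = V := by
  by_contra hne
  have c1 : 0 < (T ∩ V).card := Finset.card_pos.2 ⟨a, Finset.mem_inter.2 ⟨a1, a2⟩⟩
  have c2 : (T ∩ V).card < 4 := by
    by_contra hn
    have e1 := Finset.eq_of_subset_of_card_le (Finset.inter_subset_left : T ∩ V ⊆ T) (by omega)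
    have e2 := Finset.eq_of_subset_of_card_le (Finset.inter_subset_right : T ∩ V ⊆ V) (by omega)
    exact hne (e1.symm.trans e2)
  have hI : T ∩ V ⊆ d := Finset.inter_subset_left.trans hT
  obtain ⟨p, hp, hp'⟩ : ∃ p ∈ d, p ∉ T ∪ V :=
    Finset.exists_mem_notMem_of_card_lt_card (by have := Finset.card_union_le T V; have := h.card; omega)
  rw [Finset.mem_union, not_or] at hp'
  have e : orb (Y ⊓ fx G (T ∩ V)) p = d \ (T ∩ V) := by
    refine (h.orb_sub (fun u hu c hc => by rw [mem_fx.1 hu.2 c hc]; exact hc)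
      (Finset.mem_sdiff.2 ⟨hp, fun e => hp'.1 (Finset.mem_inter.1 e).1⟩)).antisymm ?_
    rw [Finset.sdiff_inter_distrib_right]
    exact Finset.union_subset
      (h.sub_orb hT cT.le (le_inf fT (fx_anti Finset.inter_subset_left)) (Finset.mem_sdiff.2 ⟨hp, hp'.1⟩))
      (h.sub_orb hV cV.le (le_inf fV (fx_anti Finset.inter_subset_right)) (Finset.mem_sdiff.2 ⟨hp, hp'.2⟩))
  have b5 := card_orb_dvd (inf_le_left : Y ⊓ fx G (T ∩ V) ≤ Y) p
  have b3 := Finset.card_sdiff_add_card_eq_card hI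
  have b6 := h.card
  rw [e] at b5
  have c3 : (T ∩ V).card = 3 := by
    by_contra hn
    rcases (by omega : (d \ (T ∩ V)).card = 10 ∨ (d \ (T ∩ V)).card = 11) with e | e
    · exact h5 (e ▸ b5)
    · exact h11 (e ▸ b5)
  obtain ⟨t, ht, ht'⟩ : ∃ t ∈ T, t ∉ T ∩ V := Finset.exists_mem_notMem_of_card_lt_card (by omega)
  have e2 : insert t (T ∩ V) = T := Finset.eq_of_subset_of_card_le (Finset.insert_subset ht Finset.inter_subset_left)
    (by rw [Finset.card_insert_of_notMem ht']; omega)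
  have fI : fx G (T ∩ V) ≤ Y := fun g hg => by
    have m1 : t ∈ d \ (T ∩ V) := Finset.mem_sdiff.2 ⟨hT ht, ht'⟩
    have m2 : g • t ∈ d \ (T ∩ V) :=
      inv_sdiff (U := fx G (T ∩ V)) (fun u _ => h.inv u) (fun u hu c hc => by rw [mem_fx.1 hu c hc]; exact hc) g hg t m1
    rw [← e] at m1 m2
    obtain ⟨u, hu, eu⟩ := mem_orb.1 m1
    obtain ⟨v, hv, ev⟩ := mem_orb.1 m2
    have m3 : u * v⁻¹ * g ∈ fx G T := by
      rw [← e2, fx_insert]
      refine ⟨Subgroup.mul_mem _ (Subgroup.mul_mem _ hu.2 (Subgroup.inv_mem _ hv.2)) hg, ?_⟩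
      show (u * v⁻¹ * g) • t = t
      rw [mul_smul, mul_smul, ← ev, inv_smul_smul, eu]
    have := Y.mul_mem (Y.inv_mem (Y.mul_mem hu.1 (Y.inv_mem hv.1))) (fT m3)
    rwa [inv_mul_cancel_left] at this
  have b7 := card_le_inv (U := Y) c3 fun y hy c hc => inv_of_smul_eq
    (h.three h5 h11 (h.smul_sub y hI) hI (by rw [Finset.card_smul_finset, c3]) c3 (full_smul hy fI) fI) hc
  rw [h.card_fx 2 _ hI (by omega)] at b7
  exact absurd (hb.trans_le b7) (by decide)

theorem exists_full (h : Sh G d) {Y : Subgroup G} (hY : ¬ 2 ∣ Y.index) : ∃ T ⊆ d, T.card = 4 ∧ fx G T ≤ Y := by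
  obtain ⟨T, hT, cT⟩ := Finset.exists_subset_card_eq (s := d) (n := 4) (by rw [h.card]; omega)
  haveI : Fact (Nat.Prime 2) := ⟨Nat.prime_two⟩
  have h1 : IsPGroup 2 (fx G T) := IsPGroup.of_card (n := 3) (h.card_fx 1 T hT (by omega))
  obtain ⟨x, hx⟩ := h1.nonempty_fixed_point_of_prime_not_dvd_card (G ⧸ Y) hY
  obtain ⟨g, rfl⟩ := QuotientGroup.mk_surjective x
  refine ⟨g⁻¹ • T, h.smul_sub _ hT, by rw [Finset.card_smul_finset, cT], fun k hk => ?_⟩
  have h2 : ((g⁻¹⁻¹ * k * g⁻¹ * g : G) : G ⧸ Y) = (g : G ⧸ Y) := hx ⟨_, conj_fx hk⟩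
  have h3 := QuotientGroup.eq.1 h2.symm
  simpa [mul_assoc] using h3

theorem no_idx (h : Sh G d) {Y : Subgroup G} (hi : ¬ 2 ∣ Y.index) (hY : Nat.card Y = 576 ∨ Nat.card Y = 1728) : False := by
  obtain ⟨T, hT, cT, fT⟩ := h.exists_full hi
  have h5 : ¬ 10 ∣ Nat.card Y := by omega
  have h11 : ¬ 11 ∣ Nat.card Y := by omega
  have hb : 432 < Nat.card Y := by omega
  have hd := h.card
  have pres : ∀ {V : Finset β} {a : β}, V ⊆ d → V.card = 4 → fx G V ≤ Y → a ∈ V → ∀ u ∈ Y, u • a = a → ∀ c ∈ V, u • c ∈ V :=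
    fun {V a} hV cV fV ha u hu e c hc => inv_of_smul_eq (h.four h5 h11 hb (h.smul_sub u hV) hV
      (by rw [Finset.card_smul_finset, cV]) cV (full_smul hu fV) fV (e ▸ Finset.smul_mem_smul_finset ha) ha) hc
  obtain ⟨y, hy, a, ha, hya⟩ : ∃ y ∈ Y, ∃ a ∈ T, y • a ∉ T := by
    by_contra hn
    push Not at hn
    have := card_le_inv cT hn
    rw [h.card_fx 1 _ hT (by omega)] at this
    exact absurd (hb.trans_le this) (by decide)
  have hV : y • T ⊆ d := h.smul_sub y hT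
  have cV : (y • T).card = 4 := by rw [Finset.card_smul_finset, cT]
  have fV : fx G (y • T) ≤ Y := full_smul hy fT
  have hb' : y • a ∈ y • T := Finset.smul_mem_smul_finset ha
  have mo : y • a ∈ orb Y a := mem_orb.2 ⟨y, hy, rfl⟩
  generalize y • T = V at hV cV fV hb'
  generalize y • a = b at hya hb' mo
  have dj : ∀ c ∈ T, c ∉ V := fun c h1 h2 => hya (h.four h5 h11 hb hT hV cT cV fT fV h1 h2 ▸ hb')
  have m1 : a ∈ d \ V := Finset.mem_sdiff.2 ⟨hT ha, dj a ha⟩
  have m2 : b ∈ d \ T := Finset.mem_sdiff.2 ⟨hV hb', hya⟩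
  have o1 : orb Y a = d := by
    refine (orb_subset (hT ha) fun u _ => h.inv u).antisymm fun c hc => ?_
    by_cases e : c ∈ T
    · exact h.sub_orb hV cV.le fV m1 (Finset.mem_sdiff.2 ⟨hc, dj c e⟩)
    · exact orb_trans mo (h.sub_orb hT cT.le fT m2 (Finset.mem_sdiff.2 ⟨hc, e⟩))
  have o2 : orb (Y ⊓ stabilizer G a) b = d \ T :=
    (h.orb_sub (U := Y ⊓ stabilizer G a) (fun u hu => pres hT cT fT ha u hu.1 hu.2) m2).antisymm
      (h.sub_orb hT cT.le (le_inf fT fun g hg => mem_fx.1 hg a ha) m2)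
  have c1 := card_orb Y a
  have c2 := card_orb (Y ⊓ stabilizer G a) b
  have c3 := Finset.card_sdiff_add_card_eq_card hT
  rw [o1, hd] at c1
  rw [o2, show (d \ T).card = 8 by omega] at c2
  have zT : ∀ u ∈ Y ⊓ stabilizer G a ⊓ stabilizer G b, ∀ c ∈ T, u • c ∈ T := fun u hu => pres hT cT fT ha u hu.1.1 hu.1.2
  have zV : ∀ u ∈ Y ⊓ stabilizer G a ⊓ stabilizer G b, ∀ c ∈ V, u • c ∈ V := fun u hu => pres hV cV fV hb' u hu.1.1 hu.2
  have za : ∀ u ∈ Y ⊓ stabilizer G a ⊓ stabilizer G b, u • a = a := fun u hu => hu.1.2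
  have zb : ∀ u ∈ Y ⊓ stabilizer G a ⊓ stabilizer G b, u • b = b := fun u hu => hu.2
  have cZ : Nat.card ↥(Y ⊓ stabilizer G a ⊓ stabilizer G b) = 6 ∨ Nat.card ↥(Y ⊓ stabilizer G a ⊓ stabilizer G b) = 18 := by
    omega
  generalize Y ⊓ stabilizer G a ⊓ stabilizer G b = Z at zT zV za zb cZ
  have zW : ∀ u ∈ Z, ∀ c ∈ (d \ T) \ V, u • c ∈ (d \ T) \ V := inv_sdiff (inv_sdiff (fun u _ => h.inv u) zT) zV
  have cW : ((d \ T) \ V).card = 4 := by
    have := Finset.card_sdiff_add_card_eq_card (s := V) (t := d \ T) fun c hc =>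
      Finset.mem_sdiff.2 ⟨hV hc, fun e => dj c e hc⟩
    omega
  obtain ⟨z, hz, oz⟩ := exists_ord (U := Z) Nat.prime_three (by omega)
  have key : ∀ c ∈ (d \ T) \ V, z • c = c := fun c hc => by
    have k1 := card_orb Z c
    have k2 := Finset.card_le_card (orb_subset hc zW)
    have k3 : 0 < (orb Z c).card := Finset.card_pos.2 ⟨c, self_orb Z c⟩
    have k4 : ¬ 2 ∣ Nat.card ↥(Z ⊓ stabilizer G c) := fun k => by
      obtain ⟨t, ht, ot⟩ := exists_ord Nat.prime_two k
      have l1 := fxs_mod' Nat.prime_two ot (zT t ht.1)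
      have l2 := fxs_mod' Nat.prime_two ot (zV t ht.1)
      have l3 : 0 < (fxs (zpowers t) T).card := Finset.card_pos.2 ⟨a, mem_fxs_zpowers.2 ⟨ha, za t ht.1⟩⟩
      have l4 : 0 < (fxs (zpowers t) V).card := Finset.card_pos.2 ⟨b, mem_fxs_zpowers.2 ⟨hb', zb t ht.1⟩⟩
      have l5 := h.fxs_le (g := t) (fun e => by rw [e, orderOf_one] at ot; omega)
      rw [Finset.mem_sdiff, Finset.mem_sdiff] at hc
      have l6 := Finset.card_le_card (s := insert c (fxs (zpowers t) T ∪ fxs (zpowers t) V)) (t := fxs (zpowers t) d)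
        (Finset.insert_subset (mem_fxs_zpowers.2 ⟨hc.1.1, ht.2⟩) (Finset.union_subset (fxs_mono _ hT) (fxs_mono _ hV)))
      rw [Finset.card_insert_of_notMem (fun e => (Finset.mem_union.1 e).elim (fun e => hc.1.2 (fxs_subset _ _ e))
        fun e => hc.2 (fxs_subset _ _ e)), Finset.card_union_of_disjoint (Finset.disjoint_left.2 fun x e1 e2 =>
          dj x (fxs_subset _ _ e1) (fxs_subset _ _ e2))] at l6
      omega
    have k5 : (orb Z c).card < 3 := by
      by_contra hn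
      rcases (by omega : (orb Z c).card = 3 ∨ (orb Z c).card = 4) with e | e <;> rw [e] at k1 <;> omega
    exact fix_of_lt Nat.prime_three oz (fun x hx => smul_orb hz hx) k5 (self_orb Z c)
  have := h.fix (g := z) (F := insert a ((d \ T) \ V))
    (Finset.insert_subset (hT ha) (Finset.sdiff_subset.trans Finset.sdiff_subset))
    (by rw [Finset.card_insert_of_notMem fun e => (Finset.mem_sdiff.1 (Finset.mem_sdiff.1 e).1).2 ha]; omega)
    (by rw [Finset.forall_mem_insert]; exact ⟨za z hz, key⟩)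
  rw [this, orderOf_one] at oz
  omega

/-! ### the order `1440` -/

theorem small (h : Sh G d) {Y : Subgroup G} (hY : Nat.card Y = 1440) {A : Finset β} (hA : A ⊆ d) (h0 : 0 < A.card)
    (h6 : A.card ≤ 6) (hi : ∀ u ∈ Y, ∀ a ∈ A, u • a ∈ A) : A.card = 2 ∧ ∀ g : G, g ∈ Y ↔ g • A = A := by
  have h1 := card_le_inv rfl hi
  rw [hY] at h1
  have h2 : A.card = 2 := by
    by_contra hn
    rcases (by omega : A.card = 1 ∨ A.card = 3 ∨ A.card = 4 ∨ 5 ≤ A.card) with e | e | e | e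
    · obtain ⟨a, rfl⟩ := Finset.card_eq_one.1 e
      have := card_dvd_of_le (show Y ≤ fx G {a} from fun u hu => mem_fx.2 fun c hc => by
        rw [Finset.mem_singleton.1 (hi u hu c hc), Finset.mem_singleton.1 hc])
      rw [hY, h.card_fx 4 _ hA (by omega)] at this
      exact absurd this (by decide)
    · rw [h.card_fx 2 _ hA (by omega), e] at h1
      exact absurd h1 (by decide)
    · rw [h.card_fx 1 _ hA (by omega), e] at h1
      exact absurd h1 (by decide)
    · have h3 : fx G A = ⊥ := eq_bot_iff.2 fun g hg => h.fix hA e (mem_fx.1 hg)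
      rw [h3, card_bot, mul_one] at h1
      exact absurd (h1.trans (Nat.factorial_le h6)) (by decide)
  have h3 : Y ≤ stabilizer G A := fun u hu => smul_eq_of_inv (hi u hu)
  have h4 := card_le_inv (U := stabilizer G A) h2 fun u hu a ha => inv_of_smul_eq hu ha
  rw [h.card_fx 3 _ hA (by omega)] at h4
  have h5 := eq_of_le_of_card_ge h3 (by rw [hY]; exact h4)
  exact ⟨h2, fun g => by rw [h5]; rfl⟩

theorem intrans (h : Sh G d) {Y : Subgroup G} (hY : Nat.card Y = 1440) {a : β} (ha : a ∈ d) (ho : orb Y a ≠ d) :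
    ∃ A ⊆ d, A.card = 2 ∧ ∀ g : G, g ∈ Y ↔ g • A = A := by
  have h1 : orb Y a ⊆ d := orb_subset ha fun u _ => h.inv u
  have h2 := Finset.card_sdiff_add_card_eq_card h1
  have h3 := h.card
  have h4 : 0 < (orb Y a).card := Finset.card_pos.2 ⟨a, self_orb Y a⟩
  have h5 : (orb Y a).card < 12 := by
    by_contra hn
    exact ho (Finset.eq_of_subset_of_card_le h1 (by omega))
  by_cases e : (orb Y a).card ≤ 6
  · exact ⟨_, h1, h.small hY h1 h4 e fun u hu c hc => smul_orb hu hc⟩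
  · exact ⟨_, Finset.sdiff_subset, h.small hY (A := d \ orb Y a) Finset.sdiff_subset (by omega) (by omega)
      (inv_sdiff (fun u _ => h.inv u) fun u hu c hc => smul_orb hu hc)⟩

theorem card_stab (h : Sh G d) {Y : Subgroup G} (hY : Nat.card Y = 1440) (tr : ∀ a ∈ d, orb Y a = d) {a : β} (ha : a ∈ d) :
    Nat.card ↥(Y ⊓ stabilizer G a) = 120 := by
  have := card_orb Y a
  rw [tr a ha, h.card, hY] at this
  omega

theorem not_fix (h : Sh G d) {Y : Subgroup G} (hY : Nat.card Y = 1440) (tr : ∀ a ∈ d, orb Y a = d) {a b : β} (ha : a ∈ d)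
    (hb : b ∈ d) (hab : b ≠ a) (hf : ∀ u ∈ Y ⊓ stabilizer G a, u • b = b) : False := by
  have eqs : ∀ {a b : β}, a ∈ d → b ∈ d → (∀ u ∈ Y ⊓ stabilizer G a, u • b = b) →
      Y ⊓ stabilizer G a = Y ⊓ stabilizer G b := fun ha hb hf =>
    eq_of_le_of_card_ge (fun u hu => ⟨hu.1, hf u hu⟩) (by rw [h.card_stab hY tr ha, h.card_stab hY tr hb])
  obtain ⟨z, hz, oz⟩ := exists_ord (U := Y ⊓ stabilizer G a) Nat.prime_three (by rw [h.card_stab hY tr ha]; omega)
  have l1 := fxs_mod' Nat.prime_three oz (h.inv z)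
  have l2 := h.fxs_le (g := z) (fun e => by rw [e, orderOf_one] at oz; omega)
  have l3 : ({a, b} : Finset β) ⊆ fxs (zpowers z) d :=
    Finset.insert_subset (mem_fxs_zpowers.2 ⟨ha, hz.2⟩) (Finset.singleton_subset_iff.2 (mem_fxs_zpowers.2 ⟨hb, hf z hz⟩))
  have l4 := Finset.card_le_card l3
  have l5 := Finset.card_pair hab.symm
  rw [h.card] at l1
  obtain ⟨c, hc, hc'⟩ : ∃ c ∈ fxs (zpowers z) d, c ∉ ({a, b} : Finset β) :=
    Finset.exists_mem_notMem_of_card_lt_card (by omega)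
  have l6 : insert c {a, b} = fxs (zpowers z) d := Finset.eq_of_subset_of_card_le (Finset.insert_subset hc l3)
    (by rw [Finset.card_insert_of_notMem hc']; omega)
  obtain ⟨hcd, hzc⟩ := mem_fxs_zpowers.1 hc
  obtain ⟨y, hy, rfl⟩ := mem_orb.1 ((tr a ha).symm ▸ hcd : c ∈ orb Y a)
  have f2 : ∀ u ∈ Y ⊓ stabilizer G (y • a), u • y • b = y • b := fun u hu => by
    have := hf (y⁻¹ * u * y) ⟨Y.mul_mem (Y.mul_mem (Y.inv_mem hy) hu.1) hy, by
      show (y⁻¹ * u * y) • a = a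
      rw [mul_smul, mul_smul, mem_stabilizer_iff.1 hu.2, inv_smul_smul]⟩
    rwa [mul_smul, mul_smul, inv_smul_eq_iff] at this
  have e1 := eqs ha hb hf
  have e2 := eqs hcd (h.inv y b hb) f2
  have l7 : y • b ∈ insert (y • a) ({a, b} : Finset β) := l6 ▸ mem_fxs_zpowers.2 ⟨h.inv y b hb, f2 z ⟨hz.1, hzc⟩⟩
  have e3 : Y ⊓ stabilizer G a = Y ⊓ stabilizer G (y • a) := by
    simp only [Finset.mem_insert, Finset.mem_singleton] at l7
    rcases l7 with e | e | e
    · exact (hab (smul_left_cancel y e)).elim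
    · rw [e2, e]
    · rw [e2, e, e1]
  have l8 := card_dvd_of_le (show Y ⊓ stabilizer G a ≤ fx G (insert (y • a) {a, b}) from fun u hu => mem_fx.2 (by
    simp only [Finset.mem_insert, Finset.mem_singleton, forall_eq_or_imp, forall_eq]
    exact ⟨(e3.le hu).2, hu.2, hf u hu⟩))
  rw [h.card_stab hY tr ha, h.card_fx 2 _ (l6 ▸ fxs_subset _ _) (by rw [Finset.card_insert_of_notMem hc']; omega)] at l8
  exact absurd l8 (by decide)

theorem orbits (h : Sh G d) {Y : Subgroup G} (hY : Nat.card Y = 1440) (tr : ∀ a ∈ d, orb Y a = d) {a : β} (ha : a ∈ d) :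
    (∀ b ∈ d, b ≠ a → 5 ≤ (orb (Y ⊓ stabilizer G a) b).card) ∧
      ∃ O ⊆ d, O.card = 5 ∧ ∀ u ∈ Y ⊓ stabilizer G a, ∀ c ∈ O, u • c ∈ O := by
  obtain ⟨u, hu, ou⟩ := exists_ord (U := Y ⊓ stabilizer G a) Nat.prime_five (by rw [h.card_stab hY tr ha]; omega)
  have l1 := fxs_mod' Nat.prime_five ou (h.inv u)
  have l2 := h.fxs_le (g := u) (fun e => by rw [e, orderOf_one] at ou; omega)
  rw [h.card] at l1
  have l3 : a ∈ fxs (zpowers u) d := mem_fxs_zpowers.2 ⟨ha, hu.2⟩
  have l4 := Finset.card_erase_of_mem l3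
  have ia : ∀ v ∈ Y ⊓ stabilizer G a, ∀ c ∈ ({a} : Finset β), v • c ∈ ({a} : Finset β) := fun v hv c hc => by
    rw [Finset.mem_singleton] at hc ⊢
    rw [hc]
    exact hv.2
  have sub : ∀ b ∈ d, b ≠ a → orb (Y ⊓ stabilizer G a) b ⊆ d \ {a} := fun b hb hab =>
    h.orb_sub ia (Finset.mem_sdiff.2 ⟨hb, fun e => hab (Finset.mem_singleton.1 e)⟩)
  have le1 : ∀ b ∈ d, b ≠ a → (fxs (zpowers u) (orb (Y ⊓ stabilizer G a) b)).card ≤ 1 := fun b hb hab => by
    have := Finset.card_le_card (s := fxs (zpowers u) (orb (Y ⊓ stabilizer G a) b)) (t := (fxs (zpowers u) d).erase a)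
      fun c hc => by
        have k := Finset.mem_sdiff.1 (sub b hb hab (fxs_subset _ _ hc))
        exact Finset.mem_erase.2 ⟨fun e => k.2 (Finset.mem_singleton.2 e), mem_fxs.2 ⟨k.1, (mem_fxs.1 hc).2⟩⟩
    omega
  have md : ∀ b : β, (fxs (zpowers u) (orb (Y ⊓ stabilizer G a) b)).card % 5 = (orb (Y ⊓ stabilizer G a) b).card % 5 :=
    fun b => fxs_mod' Nat.prime_five ou fun c hc => smul_orb hu hc
  have ge5 : ∀ b ∈ d, b ≠ a → 5 ≤ (orb (Y ⊓ stabilizer G a) b).card := fun b hb hab => by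
    have k1 := le1 b hb hab
    have k2 := md b
    have k3 : 1 < (orb (Y ⊓ stabilizer G a) b).card := by
      by_contra hn
      exact h.not_fix hY tr ha hb hab fun v hv =>
        Finset.card_le_one.1 (not_lt.1 hn) _ (smul_orb hv (self_orb _ b)) _ (self_orb _ b)
    omega
  refine ⟨ge5, ?_⟩
  obtain ⟨b, hb⟩ : ((fxs (zpowers u) d).erase a).Nonempty := Finset.card_pos.1 (by omega)
  obtain ⟨hab, hb⟩ := Finset.mem_erase.1 hb
  obtain ⟨hb, hub⟩ := mem_fxs_zpowers.1 hb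
  have k1 := le1 b hb hab
  have k2 := md b
  have k3 := ge5 b hb hab
  have k4 : 0 < (fxs (zpowers u) (orb (Y ⊓ stabilizer G a) b)).card :=
    Finset.card_pos.2 ⟨b, mem_fxs_zpowers.2 ⟨self_orb _ b, hub⟩⟩
  have k5 := Finset.card_sdiff_add_card_eq_card (sub b hb hab)
  have k6 := Finset.card_sdiff_add_card_eq_card (Finset.singleton_subset_iff.2 ha)
  have k7 := card_orb_dvd (inf_le_left : Y ⊓ stabilizer G a ≤ Y) b
  rw [Finset.card_singleton, h.card] at k6
  rw [hY] at k7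
  have k8 : (orb (Y ⊓ stabilizer G a) b).card ≠ 11 := fun e => by rw [e] at k7; omega
  exact ⟨(d \ {a}) \ orb (Y ⊓ stabilizer G a) b, Finset.sdiff_subset.trans Finset.sdiff_subset, by omega,
    inv_sdiff (inv_sdiff (fun v _ => h.inv v) ia) fun v hv c hc => smul_orb hv hc⟩

/-- a subgroup of order `120` of a transitive subgroup of order `1440` fixes no pair -/
theorem no_pair (h : Sh G d) {Y W : Subgroup G} (hY : Nat.card Y = 1440) (tr : ∀ a ∈ d, orb Y a = d) (hW : W ≤ Y)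
    (cW : Nat.card W = 120) {A : Finset β} (hA : A ⊆ d) (cA : A.card = 2) (hi : ∀ u ∈ W, ∀ a ∈ A, u • a ∈ A) : False := by
  obtain ⟨e, f, hef, rfl⟩ := Finset.card_eq_two.1 cA
  have he : e ∈ ({e, f} : Finset β) := by simp
  have hf : f ∈ ({e, f} : Finset β) := by simp
  have k1 := card_orb W e
  have k2 := Finset.card_le_card (orb_subset he hi)
  have k3 := card_orb (Y ⊓ stabilizer G e) f
  have k4 := (h.orbits hY tr (hA he)).1 f (hA hf) hef.symm
  have k5 := card_le_of_le (show W ⊓ stabilizer G e ≤ Y ⊓ stabilizer G e ⊓ stabilizer G f from fun u hu =>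
    ⟨⟨hW hu.1, hu.2⟩, by
      have := hi u hu.1 f hf
      simp only [Finset.mem_insert, Finset.mem_singleton] at this
      exact this.resolve_left fun k => hef (smul_left_cancel u ((mem_stabilizer_iff.1 hu.2).trans k.symm))⟩)
  rw [h.card_stab hY tr (hA he)] at k3
  rw [cW] at k1
  rw [cA] at k2
  have k6 := Nat.mul_le_mul_left (Nat.card ↥(W ⊓ stabilizer G e)) k2
  have k7 := Nat.mul_le_mul_left (Nat.card ↥(Y ⊓ stabilizer G e ⊓ stabilizer G f)) k4
  omega

end Sh

end Cfsg.Agent.SM.Mat.B2
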