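import Cfsg.Agent.SM.Rig
import Cfsg.Agent.SM.Mat.Tool

/-!
# SM (S3570): counting by a `p`-cycle, and the actions on pairs (helper55)

* `exists_conj_of_iso`: an isomorphism of transitive groups which respects a point stabiliser is induced by a permutation;
* `ncard_le_two`: on at most `p + 1` points at most two conjugate groups with `|N_S(P)| = p (p - 1) / 2` contain a `p`-cycle;
* `Up.not_pairs`: the socle does not act on the pairs of a set on which it misses an element of order three.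
-/

set_option autoImplicit false
set_option linter.unusedSectionVars false
set_option linter.unusedVariables false
set_option linter.style.haveILetI false

namespace Cfsg.Agent.SM.Mat

open Equiv Subgroup MulAction
open scoped Pointwise

variable {Ω : Type} [Fintype Ω] [DecidableEq Ω]

theorem exists_conj_of_iso {S₁ S₂ : Subgroup (Perm Ω)} (θ : S₁ ≃* S₂) {a b : Ω} (t1 : ∀ x, ∃ s ∈ S₁, s a = x)
    (h : ∀ s : S₁, (s : Perm Ω) a = a ↔ (θ s : Perm Ω) b = b) : ∃ π : Perm Ω, S₂ = S₁.map (MulAut.conj π).toMonoidHom := by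
  choose σ hσ1 hσ2 using t1
  have key : ∀ s s' : S₁, (s : Perm Ω) a = (s' : Perm Ω) a ↔ (θ s : Perm Ω) b = (θ s' : Perm Ω) b := fun s s' => by
    have := h (s'⁻¹ * s)
    rw [map_mul, map_inv] at this
    exact ⟨fun e => Perm.inv_eq_iff_eq.1 (this.1 (Perm.inv_eq_iff_eq.2 e)),
      fun e => Perm.inv_eq_iff_eq.1 (this.2 (Perm.inv_eq_iff_eq.2 e))⟩
  let f : Ω → Ω := fun x => (θ ⟨σ x, hσ1 x⟩ : Perm Ω) b
  have hf : Function.Injective f := fun x y e => by
    have := (key ⟨σ x, hσ1 x⟩ ⟨σ y, hσ1 y⟩).2 e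
    rwa [hσ2, hσ2] at this
  let π : Perm Ω := Equiv.ofBijective f (Finite.injective_iff_bijective.1 hf)
  have hπ : ∀ s : S₁, (θ s : Perm Ω) = π * s * π⁻¹ := fun s => by
    rw [eq_mul_inv_iff_mul_eq]
    refine Perm.ext fun x => ?_
    have h1 := (key (s * ⟨σ x, hσ1 x⟩) ⟨σ ((s : Perm Ω) x), hσ1 _⟩).1 (by
      show (s : Perm Ω) (σ x a) = σ _ a
      rw [hσ2, hσ2])
    rw [map_mul] at h1
    exact h1
  refine ⟨π, le_antisymm (fun s hs => ?_) ?_⟩
  · have := hπ (θ.symm ⟨s, hs⟩)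
    rw [θ.apply_symm_apply] at this
    exact ⟨θ.symm ⟨s, hs⟩, (θ.symm _).2, this.symm⟩
  · rintro _ ⟨s, hs, rfl⟩
    have := hπ ⟨s, hs⟩
    show π * s * π⁻¹ ∈ S₂
    rw [← show ((θ ⟨s, hs⟩ : S₂) : Perm Ω) = π * s * π⁻¹ from this]
    exact (θ _).2

theorem exists_conj_zpowers {G : Type*} [Group G] [Finite G] {p : ℕ} (hp : p.Prime) (h2 : ¬ p ^ 2 ∣ Nat.card G) {x y : G}
    (hx : orderOf x = p) (hy : orderOf y = p) : ∃ g : G, g * y * g⁻¹ ∈ zpowers x := by
  haveI := Fact.mk hp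
  have px : IsPGroup p (zpowers x) := IsPGroup.of_card (n := 1) (by rw [Nat.card_zpowers, hx, pow_one])
  have py : IsPGroup p (zpowers y) := IsPGroup.of_card (n := 1) (by rw [Nat.card_zpowers, hy, pow_one])
  obtain ⟨P, hP⟩ := px.exists_le_sylow
  obtain ⟨Q, hQ⟩ := py.exists_le_sylow
  obtain ⟨k, hk⟩ := IsPGroup.iff_card.1 P.isPGroup'
  have hk1 : k ≤ 1 := by
    by_contra hlt
    exact h2 ((pow_dvd_pow p (by omega)).trans (hk ▸ card_subgroup_dvd_card _))
  have e : zpowers x = P := eq_of_le_of_card_ge hP (by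
    rw [hk, Nat.card_zpowers, hx]
    calc p ^ k ≤ p ^ 1 := Nat.pow_le_pow_right hp.pos hk1
      _ = p := pow_one p)
  obtain ⟨g, hg⟩ := exists_smul_eq G Q P
  refine ⟨g, ?_⟩
  rw [e, ← hg]
  exact smul_mem_pointwise_smul y (MulAut.conj g) (Q : Subgroup G) (hQ (mem_zpowers y))

theorem mem_normalizer_zpowers {G : Type*} [Group G] [Finite G] {x g : G} (h : g * x * g⁻¹ ∈ zpowers x) :
    g ∈ normalizer (zpowers x : Set G) := by
  refine mem_normalizer_fintype fun y hy => ?_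
  obtain ⟨k, rfl⟩ := hy
  show g * x ^ k * g⁻¹ ∈ zpowers x
  rw [← conj_zpow]
  exact zpow_mem h k

theorem cent_le_zpowers {p : ℕ} (hp : p.Prime) {x : Perm Ω} (hx : orderOf x = p) (hn : Fintype.card Ω ≤ p + 1) (h3 : 3 ≤ p)
    {g : Perm Ω} (hg : g * x = x * g) : g ∈ zpowers x := by
  obtain ⟨m, hm⟩ := Perm.cycleType_prime_order (σ := x) (by rw [hx]; exact hp)
  rw [hx] at hm
  have hs : x.cycleType.sum = x.support.card := Perm.sum_cycleType x
  have hle : x.support.card ≤ Fintype.card Ω := Finset.card_le_univ _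
  rw [hm, Multiset.sum_replicate, smul_eq_mul] at hs
  have hm0 : m = 0 := by
    by_contra hne
    have : 2 * p ≤ (m + 1) * p := Nat.mul_le_mul_right p (by omega)
    omega
  subst hm0
  have hc : x.IsCycle := Perm.card_cycleType_eq_one.1 (by rw [hm]; simp)
  obtain ⟨a, ha, hall⟩ := hc
  have hmov : ∀ y, x y ≠ y → x (g y) ≠ g y := fun y hy e => hy (g.injective (by
    have := congrArg (fun σ : Perm Ω => σ y) hg
    exact this.trans e))
  have hfix : ∀ y, x y = y → x (g y) = g y := fun y hy => by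
    have := congrArg (fun σ : Perm Ω => σ y) hg
    simp only [Perm.mul_apply, hy] at this
    exact this.symm
  obtain ⟨k, hk⟩ := hall (hmov a ha)
  refine ⟨k, Perm.ext fun y => ?_⟩
  show (x ^ k) y = g y
  by_cases hy : x y = y
  · rw [Perm.zpow_apply_eq_self_of_apply_eq_self hy]
    have h1 : (x.supportᶜ).card ≤ 1 := by rw [Finset.card_compl]; omega
    exact Finset.card_le_one.1 h1 _ (by simpa using hy) _ (by simpa using hfix y hy)
  · obtain ⟨j, rfl⟩ := hall hy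
    have c1 : g * x ^ j = x ^ j * g := (Commute.zpow_right hg j).eq
    have c2 : g ((x ^ j) a) = (x ^ j) (g a) := congrArg (fun σ : Perm Ω => σ a) c1
    rw [c2, ← hk, ← Perm.mul_apply, ← Perm.mul_apply, ← zpow_add, ← zpow_add, add_comm]

theorem card_normalizer_le {G : Type*} [Group G] [Finite G] {p : ℕ} (hp : p.Prime) {x : G} (hx : orderOf x = p)
    (hC : ∀ g, g * x = x * g → g ∈ zpowers x) : Nat.card (normalizer (zpowers x : Set G)) ≤ p * (p - 1) := by
  haveI := Fact.mk hp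
  set P := zpowers x with hPd
  have hP : Nat.card P = p := by rw [hPd, Nat.card_zpowers, hx]
  have hcyc : IsCyclic P := isCyclic_of_prime_card hP
  have hker : Nat.card P.normalizerMonoidHom.ker ≤ p := by
    rw [normalizerMonoidHom_ker, ← hP, ← Nat.card_congr (subgroupOfEquivOfLe (le_normalizer (H := P))).toEquiv]
    exact card_le_of_le fun g hg => hC _ (mem_centralizer_iff.1 hg x (mem_zpowers x)).symm
  have hrange : Nat.card P.normalizerMonoidHom.range ≤ p - 1 := by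
    have h1 := card_subgroup_dvd_card P.normalizerMonoidHom.range
    rw [hcyc.card_mulAut, hP, Nat.totient_prime hp] at h1
    exact Nat.le_of_dvd (by have := hp.two_le; omega) h1
  rw [← card_mul_index P.normalizerMonoidHom.ker, index_ker]
  exact Nat.mul_le_mul hker hrange

/-- **Counting by a `p`-cycle.** -/
theorem ncard_le_two {p : ℕ} (hp : p.Prime) (h3 : 3 ≤ p) {x : Perm Ω} (hx : orderOf x = p) (hn : Fintype.card Ω ≤ p + 1)
    {𝒮 : Set (Subgroup (Perm Ω))} (h1 : ∀ S ∈ 𝒮, x ∈ S) (h2 : ∀ S ∈ 𝒮, ¬ p ^ 2 ∣ Nat.card S)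
    (hN : ∀ S ∈ 𝒮, p * (p - 1) ≤ 2 * Nat.card ↥(normalizer (zpowers x : Set (Perm Ω)) ⊓ S))
    (hc : ∀ S₁ ∈ 𝒮, ∀ S₂ ∈ 𝒮, ∃ π : Perm Ω, S₂ = S₁.map (MulAut.conj π).toMonoidHom) : 𝒮.ncard ≤ 2 := by
  rcases 𝒮.eq_empty_or_nonempty with rfl | ⟨S₀, h₀⟩
  · simp
  set N := normalizer (zpowers x : Set (Perm Ω)) with hNd
  have hidx : S₀.relIndex N ≤ 2 := by
    have e1 := Fac.card_mul N S₀
    have e2 := card_normalizer_le hp hx fun g hg => cent_le_zpowers hp hx hn h3 hg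
    have e3 := hN S₀ h₀
    have e4 : 0 < Nat.card ↥(N ⊓ S₀) := Nat.card_pos
    rw [← hNd, ← e1] at e2
    exact Nat.le_of_mul_le_mul_left (by rw [mul_comm _ 2]; exact e2.trans e3) e4
  refine (ncard_le_of_col (C := (Set.univ : Set (N ⧸ S₀.subgroupOf N))) Set.finite_univ
    (fun S c => ∃ g : N, c = (g : N ⧸ S₀.subgroupOf N) ∧ S = S₀.map (MulAut.conj (g : Perm Ω)).toMonoidHom)
    (fun S hS => ?_) ?_).trans (by rw [Set.ncard_univ]; exact hidx)
  · obtain ⟨π, hπ⟩ := hc S₀ h₀ S hS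
    have hx' := h1 S hS
    rw [hπ] at hx'
    obtain ⟨y, hy, e⟩ := hx'
    have e' : π * y * π⁻¹ = x := e
    have oy : orderOf y = p := by rw [← hx, ← e]; exact (orderOf_injective _ (MulAut.conj π).injective y).symm
    obtain ⟨s, hs⟩ := exists_conj_zpowers (G := S₀) hp (h2 S₀ h₀) (x := ⟨y, hy⟩) (y := ⟨x, h1 S₀ h₀⟩)
      (by rw [← oy]; exact (orderOf_injective _ S₀.subtype_injective _).symm)
      (by rw [← hx]; exact (orderOf_injective _ S₀.subtype_injective _).symm)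
    obtain ⟨k, hk⟩ := hs
    have hk' : y ^ k = s * x * (s : Perm Ω)⁻¹ := congrArg Subtype.val hk
    have hg : π * s ∈ N := mem_normalizer_zpowers ⟨k, by
      show x ^ k = _
      rw [← e', conj_zpow, hk', e']
      group⟩
    refine ⟨_, Set.mem_univ _, ⟨π * s, hg⟩, rfl, ?_⟩
    rw [hπ]
    refine le_antisymm ?_ ?_
    · rintro _ ⟨z, hz, rfl⟩
      exact ⟨(s : Perm Ω)⁻¹ * z * s, S₀.mul_mem (S₀.mul_mem (S₀.inv_mem s.2) hz) s.2, by
        show π * s * _ * (π * s)⁻¹ = π * z * π⁻¹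
        group⟩
    · rintro _ ⟨z, hz, rfl⟩
      exact ⟨s * z * (s : Perm Ω)⁻¹, S₀.mul_mem (S₀.mul_mem s.2 hz) (S₀.inv_mem s.2), by
        show π * _ * π⁻¹ = π * s * z * (π * s)⁻¹
        group⟩
  · have key : ∀ g g' : N, (g : N ⧸ S₀.subgroupOf N) = g' → S₀.map (MulAut.conj (g : Perm Ω)).toMonoidHom ≤
        S₀.map (MulAut.conj (g' : Perm Ω)).toMonoidHom := fun g g' e => by
      have h4 : (g : Perm Ω)⁻¹ * g' ∈ S₀ := mem_subgroupOf.1 (QuotientGroup.eq.1 e)
      rintro _ ⟨z, hz, rfl⟩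
      exact ⟨((g : Perm Ω)⁻¹ * g')⁻¹ * z * ((g : Perm Ω)⁻¹ * g'), S₀.mul_mem (S₀.mul_mem (S₀.inv_mem h4) hz) h4, by
        show (g' : Perm Ω) * _ * (g' : Perm Ω)⁻¹ = g * z * (g : Perm Ω)⁻¹
        group⟩
    rintro _ - _ - _ - ⟨g, rfl, rfl⟩ ⟨g', e, rfl⟩
    exact le_antisymm (key g g' e) (key g' g e.symm)

/-- the number of overgroups is the number of socles -/
theorem ncard_le_of_soc {X H T : Subgroup (Perm Ω)} {O : Set (Subgroup (Perm Ω))} {𝒮 : Set (Subgroup (Perm Ω))}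
    (h : ∀ M ∈ O, ∃ S ∈ 𝒮, Up X H T M S) : O.ncard ≤ 𝒮.ncard :=
  ncard_le_of_col (Set.toFinite _) (fun M S => Up X H T M S) h fun _ _ _ _ _ _ u₁ u₂ =>
    u₁.sec.eq_of_nor u₁.ov u₂.ov u₁.socM.toNor u₂.socM.toNor u₁.socM.ne

/-- **The action on pairs is not maximal.** -/
theorem not_pairs {X H T M S : Subgroup (Perm Ω)} (u : Up X H T M S) (hM : M ≤ S) {Δ : Type} [DecidableEq Δ]
    (j : S →* Perm Δ) (D : Finset Δ) (h4 : 4 ≤ D.card) (a : Ω) {δ : Finset Δ} (hδ : δ.card = 2) (hD : ∀ s, j s • δ ⊆ D)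
    (hst : ∀ s : S, (s : Perm Ω) a = a ↔ j s • δ = δ) (htr : ∀ δ' ⊆ D, δ'.card = 2 → ∃ s, j s • δ = δ')
    {c : Perm Δ} (hc3 : c ^ 3 = 1) (hcD : ∀ x ∈ D, c x ∈ D) (hc : ∀ s, ¬ ∀ x ∈ D, j s x = c x) : False := by
  have t1 : ∀ x, ∃ s : S, (s : Perm Ω) a = x := fun x => by
    obtain ⟨t, ht, e⟩ := u.trans a x
    exact ⟨⟨t, u.le ht⟩, e⟩
  choose σ hσ using t1
  have key : ∀ s s' : S, (s : Perm Ω) a = (s' : Perm Ω) a ↔ j s • δ = j s' • δ := fun s s' => by
    have := hst (s'⁻¹ * s)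
    rw [map_mul, map_inv, mul_smul, inv_smul_eq_iff] at this
    exact ⟨fun e => this.1 (Perm.inv_eq_iff_eq.2 e), fun e => Perm.inv_eq_iff_eq.1 (this.2 e)⟩
  let E : Ω → Finset Δ := fun x => j (σ x) • δ
  have hE : ∀ (s : S) x, E ((s : Perm Ω) x) = j s • E x := fun s x => by
    have := (key (σ ((s : Perm Ω) x)) (s * σ x)).1 (by
      show _ = (s : Perm Ω) ((σ x : Perm Ω) a)
      rw [hσ, hσ])
    rwa [map_mul, mul_smul] at this
  have hinj : Function.Injective E := fun x y e => by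
    have := (key (σ x) (σ y)).2 e
    rwa [hσ, hσ] at this
  have hsur : ∀ δ' ⊆ D, δ'.card = 2 → ∃ x, E x = δ' := fun δ' h1 h2 => by
    obtain ⟨s, hs⟩ := htr δ' h1 h2
    exact ⟨(s : Perm Ω) a, ((key _ s).1 (hσ _)).trans hs⟩
  have hcard : ∀ x, (E x).card = 2 := fun x => by rw [Finset.card_smul_finset, hδ]
  have hex : ∀ x, ∃ y, E y = c • E x := fun x => hsur _ (by
    intro z hz
    obtain ⟨w, hw, rfl⟩ := Finset.mem_smul_finset.1 hz
    exact hcD w (hD _ hw)) (by rw [Finset.card_smul_finset, hcard])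
  choose g0 hg0 using hex
  have hg3 : ∀ x, g0 (g0 (g0 x)) = x := fun x => hinj (by
    rw [hg0, hg0, hg0, smul_smul, smul_smul, ← pow_two, ← pow_succ, hc3, one_smul])
  let g : Perm Ω := ⟨g0, fun x => g0 (g0 x), hg3, hg3⟩
  have hgA : g ∈ alternatingGroup Ω := by
    have h1 : g ^ 3 = 1 := Perm.ext fun x => hg3 x
    have h2 : Perm.sign g ^ 3 = 1 := by rw [← map_pow, h1, map_one]
    rw [Perm.mem_alternatingGroup]
    rcases Int.units_eq_one_or (Perm.sign g) with h | h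
    · exact h
    · rw [h] at h2
      exact absurd h2 (by decide)
  let r : (Fin 2 → Ω) → Prop := fun x => Disjoint (E (x 0)) (E (x 1))
  have dj : ∀ (k : Perm Δ) (A B : Finset Δ), Disjoint A B → Disjoint (k • A) (k • B) := fun k A B h =>
    (Finset.disjoint_image k.injective).2 h
  have hMY : M ≤ relStab r := le_relStab fun m hm x hx => by
    show Disjoint (E (m (x 0))) (E (m (x 1)))
    rw [hE ⟨m, hM hm⟩, hE ⟨m, hM hm⟩]
    exact dj _ _ _ hx
  have hgY : g ∈ relStab r := le_relStab (M := zpowers g) (fun m hm x hx => by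
    obtain ⟨k, rfl⟩ := (mem_powers_iff_mem_zpowers).2 hm
    show Disjoint (E ((g ^ k) (x 0))) (E ((g ^ k) (x 1)))
    induction k with
    | zero => exact hx
    | succ k ih =>
      rw [pow_succ', Perm.mul_apply, Perm.mul_apply]
      show Disjoint (E (g0 _)) (E (g0 _))
      rw [hg0, hg0]
      exact dj _ _ _ (ih (pow_mem (mem_zpowers g) k))) (mem_zpowers g)
  obtain ⟨F, hFD, hF⟩ := Finset.exists_subset_card_eq h4
  obtain ⟨p, q, v, w, hpq, hpv, hpw, hqv, hqw, hvw, rfl⟩ := Finset.card_eq_four.1 hF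
  have mp : p ∈ D := hFD (by simp)
  have mq : q ∈ D := hFD (by simp)
  have mv : v ∈ D := hFD (by simp)
  have mw : w ∈ D := hFD (by simp)
  have pr : ∀ {x y : Δ}, x ∈ D → y ∈ D → x ≠ y → ∃ z, E z = {x, y} := fun hx hy hxy =>
    hsur _ (Finset.insert_subset hx (Finset.singleton_subset_iff.2 hy)) (Finset.card_pair hxy)
  obtain ⟨x1, e1⟩ := pr mp mq hpq
  obtain ⟨x2, e2⟩ := pr mv mw hvw
  obtain ⟨x3, e3⟩ := pr mp mv hpv
  have hA : ¬ alternatingGroup Ω ≤ relStab r := by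
    refine not_alt_le_relStab (by have := u.sec.five; omega) (x := ![x1, x2]) (y := ![x1, x3]) ?_ ?_ ?_ ?_
    · have : x1 ≠ x2 := fun e => by
        have h1 : p ∈ E x2 := by rw [← e, e1]; simp
        rw [e2] at h1
        simp [hpv, hpw] at h1
      intro i k
      fin_cases i <;> fin_cases k <;> simp [this, this.symm]
    · have : x1 ≠ x3 := fun e => by
        have h1 : q ∈ E x3 := by rw [← e, e1]; simp
        rw [e3] at h1
        simp [hpq.symm, hqv] at h1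
      intro i k
      fin_cases i <;> fin_cases k <;> simp [this, this.symm]
    · show Disjoint (E x1) (E x2)
      rw [e1, e2]
      simp [hpv, hpw, hqv, hqw, hpv.symm, hpw.symm, hqv.symm, hqw.symm]
    · show ¬ Disjoint (E x1) (E x3)
      rw [e1, e3]
      simp
  have hgS : g ∈ S := hM (u.mem_of_le hMY hA hgY hgA)
  refine hc ⟨g, hgS⟩ fun x hx => ?_
  have ag : ∀ {y : Δ}, y ∈ D → x ≠ y → j ⟨g, hgS⟩ x = c x ∨ j ⟨g, hgS⟩ x = c y := fun {y} hy hxy => by
    obtain ⟨z, hz⟩ := pr hx hy hxy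
    have h1 := hE ⟨g, hgS⟩ z
    have h2 : E (g z) = c • E z := hg0 z
    have h3 : j ⟨g, hgS⟩ • x ∈ c • E z := by
      rw [← h2, h1]
      exact Finset.smul_mem_smul_finset (by rw [hz]; simp)
    rw [hz] at h3
    obtain ⟨w, hw, e⟩ := Finset.mem_smul_finset.1 h3
    rcases Finset.mem_insert.1 hw with rfl | hw
    · exact Or.inl e.symm
    · rw [Finset.mem_singleton.1 hw] at e
      exact Or.inr e.symm
  obtain ⟨y, hy, z, hz, hyz⟩ := Finset.one_lt_card.1 (show 1 < (D.erase x).card by rw [Finset.card_erase_of_mem hx]; omega)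
  rcases ag (Finset.mem_of_mem_erase hy) (Finset.ne_of_mem_erase hy).symm with h | h
  · exact h
  rcases ag (Finset.mem_of_mem_erase hz) (Finset.ne_of_mem_erase hz).symm with h' | h'
  · exact h'
  exact (hyz (c.injective (h.symm.trans h'))).elim

end Cfsg.Agent.SM.Mat
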