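import Cfsg.Agent.SM.Mat.Tool
import Cfsg.Agent.S0364
import Cfsg.Agent.S0366
import Cfsg.Agent.S0384
import Cfsg.Agent.SporadicA.Dodecad
import Cfsg.Prelude.Def_Spor_Mathieu

/-!
# SM (S3570): orbits and fixed points on the 24 points (helper55)
-/

set_option autoImplicit false
set_option linter.unusedSectionVars false
set_option linter.unusedVariables false
set_option linter.style.haveILetI false

namespace Cfsg.Agent.SM.Mat

open Cfsg Equiv Subgroup MulAction
open scoped Pointwise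

section general

variable {G : Type} [Group G] [Finite G] {β : Type} [MulAction G β]

open Classical in
/-- the orbit of `b` under `U` -/
noncomputable def orb [Fintype β] (U : Subgroup G) (b : β) : Finset β := Finset.univ.filter fun c => ∃ u ∈ U, u • b = c

theorem mem_orb [Fintype β] {U : Subgroup G} {b c : β} : c ∈ orb U b ↔ ∃ u ∈ U, u • b = c := by
  unfold orb
  simp

theorem self_orb [Fintype β] (U : Subgroup G) (b : β) : b ∈ orb U b := mem_orb.2 ⟨1, U.one_mem, one_smul _ _⟩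

theorem smul_orb [Fintype β] {U : Subgroup G} {b c : β} {u : G} (hu : u ∈ U) (hc : c ∈ orb U b) : u • c ∈ orb U b := by
  obtain ⟨v, hv, rfl⟩ := mem_orb.1 hc
  exact mem_orb.2 ⟨u * v, U.mul_mem hu hv, mul_smul _ _ _⟩

theorem orb_subset [Fintype β] {U : Subgroup G} {b : β} {A : Finset β} (hb : b ∈ A) (hA : ∀ u ∈ U, ∀ c ∈ A, u • c ∈ A) :
    orb U b ⊆ A := fun c hc => by
  obtain ⟨v, hv, rfl⟩ := mem_orb.1 hc
  exact hA v hv b hb

theorem relIndex_orb [Fintype β] (U : Subgroup G) (b : β) : (stabilizer G b).relIndex U = (orb U b).card := by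
  have h1 : (stabilizer G b).relIndex U = (stabilizer U b).index := rfl
  rw [h1, index_stabilizer, ← Set.ncard_coe_finset]
  congr 1
  ext c
  rw [Finset.mem_coe, mem_orb]
  exact ⟨fun ⟨u, hu⟩ => ⟨u, u.2, hu⟩, fun ⟨u, hu, e⟩ => ⟨⟨u, hu⟩, e⟩⟩

theorem card_orb [Fintype β] (U : Subgroup G) (b : β) :
    Nat.card ↥(U ⊓ stabilizer G b) * (orb U b).card = Nat.card U := by
  rw [← relIndex_orb, Fac.card_mul]

theorem inv_sdiff [DecidableEq β] {U : Subgroup G} {A B : Finset β} (hA : ∀ u ∈ U, ∀ c ∈ A, u • c ∈ A)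
    (hB : ∀ u ∈ U, ∀ c ∈ B, u • c ∈ B) : ∀ u ∈ U, ∀ c ∈ A \ B, u • c ∈ A \ B := fun u hu c hc => by
  rw [Finset.mem_sdiff] at hc ⊢
  refine ⟨hA u hu c hc.1, fun h => hc.2 ?_⟩
  have := hB _ (U.inv_mem hu) _ h
  rwa [inv_smul_smul] at this

theorem smul_eq_of_inv [DecidableEq β] {u : G} {A : Finset β} (hA : ∀ c ∈ A, u • c ∈ A) : u • A = A :=
  Finset.eq_of_subset_of_card_le (fun c hc => by
    obtain ⟨d, hd, rfl⟩ := Finset.mem_smul_finset.1 hc
    exact hA d hd) (Finset.card_smul_finset u A).ge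

theorem inv_of_smul_eq [DecidableEq β] {u : G} {A : Finset β} (hA : u • A = A) {c : β} (hc : c ∈ A) : u • c ∈ A :=
  hA ▸ Finset.smul_mem_smul_finset hc

open Classical in
/-- the points of `A` fixed by `P` -/
noncomputable def fxs (P : Subgroup G) (A : Finset β) : Finset β := A.filter fun a => ∀ g ∈ P, g • a = a

theorem mem_fxs {P : Subgroup G} {A : Finset β} {a : β} : a ∈ fxs P A ↔ a ∈ A ∧ ∀ g ∈ P, g • a = a := by
  unfold fxs
  simp

theorem fxs_subset (P : Subgroup G) (A : Finset β) : fxs P A ⊆ A := fun _ h => (mem_fxs.1 h).1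

theorem fxs_mono (P : Subgroup G) {A B : Finset β} (h : A ⊆ B) : fxs P A ⊆ fxs P B := fun _ k =>
  mem_fxs.2 ⟨h (mem_fxs.1 k).1, (mem_fxs.1 k).2⟩

theorem mem_fxs_zpowers {g : G} {A : Finset β} {a : β} : a ∈ fxs (zpowers g) A ↔ a ∈ A ∧ g • a = a :=
  mem_fxs.trans (and_congr_right fun _ => ⟨fun h => h g (mem_zpowers g), fun h x hx =>
    (zpowers_le.2 (show g ∈ stabilizer G a from h) : zpowers g ≤ stabilizer G a) hx⟩)

theorem fxs_mod {p : ℕ} (hp : p.Prime) {P : Subgroup G} (hP : IsPGroup p P) {A : Finset β}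
    (hA : ∀ g ∈ P, ∀ a ∈ A, g • a ∈ A) : (fxs P A).card % p = A.card % p := by
  haveI := Fact.mk hp
  let Z : SubMulAction P β := ⟨A, fun g a ha => hA g g.2 a ha⟩
  haveI : Finite Z := (inferInstance : Finite A)
  have h1 := hP.card_modEq_card_fixedPoints Z
  have h2 : Nat.card Z = A.card := Nat.card_eq_finsetCard A
  have h3 : Nat.card (fixedPoints P Z) = (fxs P A).card := by
    rw [← Nat.card_eq_finsetCard]
    exact Nat.card_congr
      { toFun := fun x => ⟨x.1.1, mem_fxs.2 ⟨x.1.2, fun g hg => congrArg Subtype.val (x.2 ⟨g, hg⟩)⟩⟩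
        invFun := fun x => ⟨⟨x.1, (mem_fxs.1 x.2).1⟩, fun g => Subtype.ext ((mem_fxs.1 x.2).2 g g.2)⟩
        left_inv := fun _ => rfl
        right_inv := fun _ => rfl }
  rw [← h2, ← h3]
  exact h1.symm

theorem pgroup_zpowers {p : ℕ} (hp : p.Prime) {g : G} (hg : orderOf g = p) : IsPGroup p (zpowers g) :=
  haveI := Fact.mk hp
  IsPGroup.of_card (n := 1) (by rw [Nat.card_zpowers, hg, pow_one])

theorem inv_zpowers {g : G} {A : Finset β} (hA : ∀ a ∈ A, g • a ∈ A) : ∀ x ∈ zpowers g, ∀ a ∈ A, x • a ∈ A := by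
  intro x hx
  obtain ⟨k, rfl⟩ := (mem_powers_iff_mem_zpowers).2 hx
  induction k with
  | zero => intro a ha; simpa using ha
  | succ k ih =>
    intro a ha
    show g ^ (k + 1) • a ∈ A
    rw [pow_succ, mul_smul]
    exact ih (pow_mem (mem_zpowers g) k) _ (hA a ha)

theorem fxs_mod' {p : ℕ} (hp : p.Prime) {g : G} (hg : orderOf g = p) {A : Finset β} (hA : ∀ a ∈ A, g • a ∈ A) :
    (fxs (zpowers g) A).card % p = A.card % p :=
  fxs_mod hp (pgroup_zpowers hp hg) (inv_zpowers hA)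

/-- an element of prime order fixes a small invariant set pointwise -/
theorem fix_of_lt [DecidableEq β] {p : ℕ} (hp : p.Prime) {g : G} (hg : orderOf g = p) {A : Finset β} (hA : ∀ a ∈ A, g • a ∈ A)
    (hlt : A.card < p) {a : β} (ha : a ∈ A) : g • a = a := by
  have h1 := fxs_mod' hp hg hA
  have h2 := Finset.card_le_card (fxs_subset (zpowers g) A)
  rw [Nat.mod_eq_of_lt hlt, Nat.mod_eq_of_lt (by omega)] at h1
  rw [← Finset.eq_of_subset_of_card_le (fxs_subset (zpowers g) A) h1.ge] at ha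
  exact (mem_fxs_zpowers.1 ha).2

theorem exists_ord {U : Subgroup G} {p : ℕ} (hp : p.Prime) (h : p ∣ Nat.card U) : ∃ x ∈ U, orderOf x = p := by
  haveI := Fact.mk hp
  obtain ⟨x, hx⟩ := exists_prime_orderOf_dvd_card' p h
  exact ⟨x, x.2, (orderOf_injective U.subtype U.subtype_injective x).trans hx⟩

theorem ord_dvd {U : Subgroup G} {x : G} (hx : x ∈ U) : orderOf x ∣ Nat.card U :=
  (orderOf_injective U.subtype U.subtype_injective ⟨x, hx⟩) ▸ orderOf_dvd_natCard (⟨x, hx⟩ : U)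

/-- a maximal subgroup which fixes `b` is the stabiliser -/
theorem eq_stab {Y S : Subgroup G} (h : Y ⋖ S) {b : β} (h1 : ∀ y ∈ Y, y • b = b) (h2 : ∃ g ∈ S, g • b ≠ b) :
    Y = S ⊓ stabilizer G b := by
  rcases h.eq_or_eq (c := S ⊓ stabilizer G b) (fun y hy => ⟨h.le hy, h1 y hy⟩) inf_le_left with e | e
  · exact e.symm
  · obtain ⟨g, hg, k⟩ := h2
    exact (k (e.ge hg).2).elim

/-- a point whose orbit has length prime to `35` -/
theorem exists_cop [Fintype β] [DecidableEq β] {U : Subgroup G} : ∀ (n : ℕ) (A : Finset β), A.card = n →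
    (∀ u ∈ U, ∀ c ∈ A, u • c ∈ A) → (∀ i j, n ≠ 5 * i + 7 * j) →
      ∃ b ∈ A, ¬ 5 ∣ (orb U b).card ∧ ¬ 7 ∣ (orb U b).card := by
  intro n
  induction n using Nat.strong_induction_on with
  | _ n ih =>
    intro A hn hA hne
    obtain ⟨b, hb⟩ : A.Nonempty := Finset.card_pos.1 (by have := hne 0 0; omega)
    have hs := orb_subset hb hA
    have hc := Finset.card_sdiff_add_card_eq_card hs
    have h0 : 0 < (orb U b).card := Finset.card_pos.2 ⟨b, self_orb U b⟩
    by_cases h : ¬ 5 ∣ (orb U b).card ∧ ¬ 7 ∣ (orb U b).card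
    · exact ⟨b, hb, h⟩
    obtain ⟨c, hc1, hc2⟩ := ih _ (by omega) (A \ orb U b) rfl (inv_sdiff hA fun u hu c hc => smul_orb hu hc) fun i j e => by
      by_cases h5 : 5 ∣ (orb U b).card
      · obtain ⟨k, hk⟩ := h5
        exact hne (i + k) j (by omega)
      · obtain ⟨k, hk⟩ : 7 ∣ (orb U b).card := by tauto
        exact hne i (j + k) (by omega)
    exact ⟨c, (Finset.mem_sdiff.1 hc1).1, hc2⟩

end general

/-- from multiple transitivity on `D` to sets -/
theorem move_of_trans {α : Type} [Fintype α] [DecidableEq α] {G : Subgroup (Perm α)} {D : Finset α} {k : ℕ} (hk : k ≤ D.card)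
    (h : ∀ x y : Fin k ↪ α, (∀ i, x i ∈ D) → (∀ i, y i ∈ D) → ∃ g ∈ G, ∀ i, g (x i) = y i) {F A B : Finset α} (hF : F ⊆ D)
    (hA : A ⊆ D) (hB : B ⊆ D) (h5 : F.card + A.card ≤ k) (hc : B.card = A.card) (dA : Disjoint A F) (dB : Disjoint B F) :
    ∃ g ∈ G, (∀ u ∈ F, g u = u) ∧ g • A = B := by
  let e : A ≃ B := Finset.equivOfCardEq hc.symm
  let Z : Finset α := F ∪ Dᶜ
  have nz : ∀ {C : Finset α}, C ⊆ D → Disjoint C F → ∀ c ∈ C, c ∉ Z := fun hC dC c hc hz => by
    rcases Finset.mem_union.1 hz with h | h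
    · exact Finset.disjoint_left.1 dC hc h
    · exact Finset.mem_compl.1 h (hC hc)
  have inj : ∀ {C : Finset α} (_ : C ⊆ D) (_ : Disjoint C F) (eC : A ≃ C),
      Function.Injective (Sum.elim (fun i : Z => (i : α)) (fun i : A => (eC i : α))) := by
    intro C hC dC eC
    rintro (i | i) (j | j) h
    · exact congrArg Sum.inl (Subtype.ext h)
    · have h1 : (i : α) = eC j := h
      exact absurd (h1 ▸ i.2) (nz hC dC _ (eC j).2)
    · have h1 : (eC i : α) = j := h
      exact absurd (h1.symm ▸ j.2) (nz hC dC _ (eC i).2)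
    · exact congrArg Sum.inr (eC.injective (Subtype.ext h))
  obtain ⟨π, hπ⟩ := Perm.exists_extending_pair _ _ (inj hA dA (Equiv.refl _)) (inj hB dB e)
  have p1 : ∀ z ∈ Z, π z = z := fun z hz => hπ (Sum.inl ⟨z, hz⟩)
  have p2 : ∀ a (ha : a ∈ A), π a = e ⟨a, ha⟩ := fun a ha => hπ (Sum.inr ⟨a, ha⟩)
  have p3 : ∀ d ∈ D, π d ∈ D := fun d hd => by
    by_contra hn
    have := p1 _ (Finset.mem_union_right _ (Finset.mem_compl.2 hn))
    exact hn ((π.injective this).symm ▸ hd)
  obtain ⟨W, hW1, hW2, hW3⟩ := Finset.exists_subsuperset_card_eq (Finset.union_subset hF hA)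
    ((Finset.card_union_le F A).trans h5) hk
  let x : Fin k ↪ α := (Finset.equivFinOfCardEq hW3).symm.toEmbedding.trans (Function.Embedding.subtype _)
  have hx : ∀ i, x i ∈ D := fun i => hW2 ((Finset.equivFinOfCardEq hW3).symm i).2
  obtain ⟨g, hg, hgx⟩ := h x (x.trans π.toEmbedding) hx fun i => p3 _ (hx i)
  have ag : ∀ w ∈ W, g w = π w := fun w hw => by
    have := hgx (Finset.equivFinOfCardEq hW3 ⟨w, hw⟩)
    simpa [x] using this
  refine ⟨g, hg, fun u hu => (ag u (hW1 (Finset.mem_union_left _ hu))).trans (p1 u (Finset.mem_union_left _ hu)), ?_⟩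
  refine Finset.eq_of_subset_of_card_le (fun p hp => ?_) (by rw [Finset.card_smul_finset, hc])
  obtain ⟨q, hq, rfl⟩ := Finset.mem_smul_finset.1 hp
  show g q ∈ B
  rw [ag q (hW1 (Finset.mem_union_right _ hq)), p2 q hq]
  exact (e _).2

/-! ### `M24` -/

theorem card_pt : (Finset.univ : Finset GolayPt).card = 24 := rfl

theorem move24 {F A B : Finset GolayPt} (h5 : F.card + A.card ≤ 5) (hc : B.card = A.card) (dA : Disjoint A F)
    (dB : Disjoint B F) : ∃ g ∈ M24, (∀ u ∈ F, g u = u) ∧ g • A = B :=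
  move_of_trans (D := Finset.univ) (k := 5) (by rw [card_pt]; omega) (fun x y _ _ => by
    obtain ⟨g, hg⟩ := S0366.result.exists_smul_eq x y
    exact ⟨g, g.2, fun i => congrArg (fun e : Fin 5 ↪ GolayPt => e i) hg⟩)
    (Finset.subset_univ _) (Finset.subset_univ _) (Finset.subset_univ _) h5 hc dA dB

theorem move24_pt (a b : GolayPt) : ∃ g ∈ M24, g a = b := by
  obtain ⟨g, hg, -, e⟩ := move24 (F := ∅) (A := {a}) (B := {b}) (by simp) (by simp) (by simp) (by simp)
  exact ⟨g, hg, by simpa using e⟩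

/-- the order of a group which fixes `k ≤ 5` points -/
theorem card_dvd_of_fix {U : Subgroup (Perm GolayPt)} (hU : U ≤ M24) {F : Finset GolayPt} (h : ∀ u ∈ U, ∀ a ∈ F, u a = a)
    {k m : ℕ} (hk : k ≤ 5) (hF : k ≤ F.card) (hm : m * (24 : ℕ).factorial = 244823040 * (24 - k).factorial) :
    Nat.card U ∣ m := by
  obtain ⟨F', h1, h2⟩ := Finset.exists_subset_card_eq hF
  have h3 : IsMultiplyPretransitive M24 GolayPt k :=
    haveI := S0366.result
    isMultiplyPretransitive_of_le (n := 5) hk (by rw [Nat.card_eq_fintype_card]; decide)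
  have h4 := h3.index_of_fixingSubgroup_mul (s := (F' : Set GolayPt)) (by rw [Set.ncard_coe_finset, h2])
  have h5 := (fixingSubgroup M24 (F' : Set GolayPt)).card_mul_index
  have h6 : Nat.card GolayPt = 24 := by rw [Nat.card_eq_fintype_card]; rfl
  rw [S0364.result] at h5
  rw [h6] at h4
  have h7 : Nat.card (fixingSubgroup M24 (F' : Set GolayPt)) = m := by
    refine Nat.eq_of_mul_eq_mul_right (Nat.factorial_pos 24) ?_
    rw [hm, ← h5, mul_assoc, h4]
  rw [← h7, ← Nat.card_congr (subgroupOfEquivOfLe hU).toEquiv]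
  exact card_dvd_of_le fun u hu => (mem_fixingSubgroup_iff _).2 fun a ha => h u hu a (h1 ha)

theorem fxs_le {g : Perm GolayPt} (hg : g ∈ M24) {k m : ℕ} (hk : k < 5)
    (hm : m * (24 : ℕ).factorial = 244823040 * (24 - (k + 1)).factorial) (hd : ¬ orderOf g ∣ m) (A : Finset GolayPt) :
    (fxs (zpowers g) A).card ≤ k := by
  by_contra hlt
  refine hd ?_
  rw [← Nat.card_zpowers]
  exact card_dvd_of_fix (zpowers_le.2 hg) (F := fxs (zpowers g) A) (fun u hu a ha => (mem_fxs.1 ha).2 u hu) hk (by omega) hm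

theorem fxs5 {g : Perm GolayPt} (hg : g ∈ M24) (h : orderOf g = 5) (A : Finset GolayPt) : (fxs (zpowers g) A).card ≤ 4 :=
  fxs_le hg (m := 48) (by omega) (by decide +kernel) (by rw [h]; decide) A

theorem fxs7 {g : Perm GolayPt} (hg : g ∈ M24) (h : orderOf g = 7) (A : Finset GolayPt) : (fxs (zpowers g) A).card ≤ 3 :=
  fxs_le hg (m := 960) (by omega) (by decide +kernel) (by rw [h]; decide) A

theorem fxs11 {g : Perm GolayPt} (hg : g ∈ M24) (h : orderOf g = 11) (A : Finset GolayPt) : (fxs (zpowers g) A).card ≤ 2 :=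
  fxs_le hg (m := 20160) (by omega) (by decide +kernel) (by rw [h]; decide) A

theorem smul_supp {g : Perm GolayPt} (hg : g ∈ M24) {C : Finset GolayPt}
    (hC : C ∈ supports (golayCode : Set (GolayPt → ZMod 2))) : g • C ∈ supports (golayCode : Set (GolayPt → ZMod 2)) := by
  have h1 : g • supports (golayCode : Set (GolayPt → ZMod 2)) = _ := hg
  rw [← h1]
  exact Set.smul_mem_smul_set hC

theorem smul_oct {g : Perm GolayPt} (hg : g ∈ M24) {C : Finset GolayPt} (hC : C ∈ octads) : g • C ∈ octads :=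
  ⟨smul_supp hg hC.1, by rw [Finset.card_smul_finset]; exact hC.2⟩

/-! ### dodecads -/

theorem move12 {d : Finset GolayPt} (hd : d ∈ dodecads) {F A B : Finset GolayPt} (hF : F ⊆ d) (hA : A ⊆ d) (hB : B ⊆ d)
    (h5 : F.card + A.card ≤ 5) (hc : B.card = A.card) (dA : Disjoint A F) (dB : Disjoint B F) :
    ∃ g ∈ M24 ⊓ stabilizer (Perm GolayPt) d, (∀ u ∈ F, g u = u) ∧ g • A = B :=
  move_of_trans (D := d) (k := 5) (by rw [hd.2]; omega) (fun x y hx hy => by
    obtain ⟨g, hg, -⟩ := S0384.result d hd x y hx hy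
    exact ⟨g.1.1, ⟨g.1.2, g.2⟩, hg⟩) hF hA hB h5 hc dA dB

theorem fix12 {d : Finset GolayPt} (hd : d ∈ dodecads) {g : Perm GolayPt} (hg : g ∈ M24) (hgd : g • d = d) {F : Finset GolayPt}
    (hF : F ⊆ d) (h5 : 5 ≤ F.card) (h : ∀ a ∈ F, g a = a) : g = 1 := by
  obtain ⟨F', h1, h2⟩ := Finset.exists_subset_card_eq h5
  let x : Fin 5 ↪ GolayPt := (Finset.equivFinOfCardEq h2).symm.toEmbedding.trans (Function.Embedding.subtype _)
  have hx : ∀ i, x i ∈ F := fun i => h1 ((Finset.equivFinOfCardEq h2).symm i).2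
  have := (S0384.result d hd x x (fun i => hF (hx i)) fun i => hF (hx i)).unique (y₁ := ⟨⟨g, hg⟩, hgd⟩) (y₂ := 1)
    (fun i => h _ (hx i)) fun i => rfl
  exact congrArg (fun z : stabilizer M24 d => (z.1.1 : Perm GolayPt)) this

theorem dod : Spor.squareDodecad ∈ dodecads :=
  ⟨⟨qrWord 0, Submodule.subset_span (Or.inl ⟨0, rfl⟩), rfl⟩, by decide +kernel⟩

theorem zero_dod : (some 0 : GolayPt) ∈ Spor.squareDodecad := by decide +kernel

end Cfsg.Agent.SM.Mat
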