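import Cfsg.Agent.SM.Mat.Sieve
import Cfsg.Agent.SM.Mat.Geo
import Cfsg.Agent.SM.Sp.Red
import Cfsg.Agent.S0982

/-!
# SM (S3570), `S = M24`: the rows which die inside `T` (orders 6048 and 6072) (helper55)
-/

set_option autoImplicit false
set_option linter.unusedSectionVars false
set_option linter.unusedVariables false
set_option linter.style.haveILetI false

namespace Cfsg.Agent.SM.Mat

open Cfsg Subgroup MulAction Cfsg.Agent.OrdDiv Cfsg.Agent.H940.Eng Cfsg.Agent.H940.Eng.D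
open scoped Pointwise

variable {Γ : Type} [Group Γ] [Finite Γ] {M S H T B : Subgroup Γ}

theorem card_subgroupOf' (T B : Subgroup Γ) : Nat.card (B.subgroupOf T) = Nat.card ↥(T ⊓ B) := by
  rw [← inf_subgroupOf_left]
  exact Nat.card_congr (subgroupOfEquivOfLe inf_le_left).toEquiv

theorem no252 (f : Fac M S H T B) (e : S ≃* M24) (hT : Nat.card T = 6048) (hc : Nat.card ↥(T ⊓ B) = 252) : False := by
  haveI := f.asH.simple
  haveI := H715.Fpr.M24.fin
  let j : T →* M24 := e.toMonoidHom.comp (inclusion f.le)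
  have hj : Function.Injective j := e.injective.comp (inclusion_injective f.le)
  obtain ⟨R, hR⟩ := exists_card_eq (G := T) (r := 7) (by decide) (by rw [hT]; decide)
  have h1 := (H715.Fpr.MathData.cn24_7 (R := R.map j) (by rw [card_map_of_injective hj, hR])).1
  have h2 : Nat.card (centralizer (R : Set T)) ∣ prodl [(2, 1), (3, 1), (7, 1)] := by
    rw [show prodl [(2, 1), (3, 1), (7, 1)] = 42 from rfl, ← h1, ← card_map_of_injective hj]
    refine card_dvd_of_le ?_
    rintro _ ⟨x, hx, rfl⟩ _ ⟨y, hy, rfl⟩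
    rw [← map_mul, ← map_mul, hx y hy]
  have h3 : Loc T ⟨7, 7, [(3, 1), (7, 1)]⟩ := loc_of_cent (fun h => f.asH.nab ⟨⟨h⟩⟩) hT (by decide) (by decide) (by decide) hR h2
    (by decide) (by decide +kernel)
  have h4 : Ords.{0} 6048 o_m24 := fun K _ _ hs hna hd => ords_m24 base K hs hna (hd.trans (by decide))
  have h5 := feas_of (l := [(2, 5), (3, 3), (7, 1)]) (by decide +kernel) hT h4 h3 (H := B.subgroupOf T)
    (by rw [card_subgroupOf', hc]; decide)
  rw [card_subgroupOf', hc] at h5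
  exact absurd h5 (by decide +kernel)

/-- an element of order 24 of `SL₂(23)` -/
def a24 : Matrix.SpecialLinearGroup (Fin 2) (ZMod 23) := ⟨!![0, -1; 1, 3], by rw [Matrix.det_fin_two_of]; decide⟩

/-- a transvection -/
def tv : Matrix.SpecialLinearGroup (Fin 2) (ZMod 23) := ⟨!![1, 1; 0, 1], by rw [Matrix.det_fin_two_of]; decide⟩

theorem exists12 {K : Type} [Group K] [Finite K] [IsSimpleGroup K] (h : Nat.card K = 6072) : ∃ w : K, orderOf w = 12 := by
  haveI : Fact (Nat.Prime 23) := ⟨by decide⟩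
  obtain ⟨e⟩ := S0982.result h (F := ZMod 23) (ZMod.card 23)
  refine ⟨e.symm (QuotientGroup.mk a24), ?_⟩
  rw [MulEquiv.orderOf_eq]
  have ne : ∀ k : ℕ, tv * a24 ^ k ≠ a24 ^ k * tv →
      (QuotientGroup.mk a24 : Matrix.ProjectiveSpecialLinearGroup (Fin 2) (ZMod 23)) ^ k ≠ 1 := fun k hk h1 => by
    rw [← QuotientGroup.mk_pow, QuotientGroup.eq_one_iff] at h1
    exact hk (mem_center_iff.1 h1 tv)
  refine orderOf_eq_of_pow_and_pow_div_prime (by norm_num) ?_ fun p hp hd => ?_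
  · rw [← QuotientGroup.mk_pow, QuotientGroup.eq_one_iff, show a24 ^ 12 = -1 by decide +kernel]
    exact mem_center_iff.2 fun g => by simp
  · have h2 : p = 2 ∨ p = 3 := by
      have := Nat.le_of_dvd (by norm_num) hd
      interval_cases p <;> simp_all (config := { decide := true })
    rcases h2 with rfl | rfl
    · exact ne 6 (by decide +kernel)
    · exact ne 4 (by decide +kernel)

theorem conj_into {K : Type*} [Group K] [Finite K] {p : ℕ} [Fact p.Prime] (Q : Sylow p K) {y : K} (hy : IsPGroup p (zpowers y)) :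
    ∃ g : K, g * y * g⁻¹ ∈ (Q : Subgroup K) := by
  obtain ⟨P, hP⟩ := hy.exists_le_sylow
  obtain ⟨g, hg⟩ := exists_smul_eq K P Q
  exact ⟨g, hg ▸ smul_mem_pointwise_smul y (MulAut.conj g) (P : Subgroup K) (hP (mem_zpowers y))⟩

theorem ord_conj {K : Type*} [Group K] (g w : K) : orderOf (g * w * g⁻¹) = orderOf w :=
  orderOf_injective (MulAut.conj g).toMonoidHom (MulAut.conj g).injective w

theorem no6 (f : Fac M S H T B) (hT : Nat.card T = 6072) (hc : Nat.card ↥(T ⊓ B) = 6) : False := by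
  haveI := f.asH.simple
  haveI : Fact (Nat.Prime 3) := ⟨by decide⟩
  obtain ⟨Q, hQ, -⟩ := f.exists_syl (p := 3) (by rw [hc]; decide)
    (Fac.card_syl_eq_one (k := 1) (m := 2) hc (by decide) (by decide))
  obtain ⟨w, hw⟩ := exists12 hT
  have h4 : orderOf (w ^ 4) = 3 := by rw [orderOf_pow' w (by norm_num), hw]; rfl
  obtain ⟨g, hg⟩ := conj_into Q (pgroup_zpowers (by decide) h4)
  rw [← conj_pow] at hg
  have h5 : zpowers ((g * w * g⁻¹) ^ 4) = (Q : Subgroup T) := eq_of_le_of_card_ge (zpowers_le.2 hg) (by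
    rw [Nat.card_zpowers, conj_pow, ord_conj, h4, Q.card_eq_multiplicity, hT]
    exact le_of_eq (by decide +kernel))
  have h6 : g * w * g⁻¹ ∈ B.subgroupOf T := by
    rw [← hQ, ← h5]
    refine centralizer_le_normalizer _ ?_
    rintro _ ⟨k, rfl⟩
    exact (((Commute.refl _).pow_left 4).zpow_left k).eq
  have h7 := ord_dvd h6
  rw [ord_conj, hw, card_subgroupOf', hc] at h7
  exact absurd h7 (by decide)

theorem no8 (f : Fac M S H T B) (hT : Nat.card T = 6072) (hc : Nat.card ↥(T ⊓ B) = 8) : False := by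
  haveI := f.asH.simple
  let Q : Sylow 2 T := Sylow.ofCard (B.subgroupOf T) (by rw [card_subgroupOf', hc, hT]; decide +kernel)
  obtain ⟨w, hw⟩ := exists12 hT
  have h4 : orderOf (w ^ 3) = 4 := by rw [orderOf_pow' w (by norm_num), hw]; rfl
  obtain ⟨g, hg⟩ := conj_into Q (y := w ^ 3) (IsPGroup.of_card (n := 2) (by rw [Nat.card_zpowers, h4]; rfl))
  rw [← conj_pow] at hg
  set v : Γ := (g * w * g⁻¹).1 with hv
  have v1 : v ∈ T := (g * w * g⁻¹).2
  have v2 : orderOf v = 12 := (orderOf_injective T.subtype T.subtype_injective _).trans ((ord_conj g w).trans hw)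
  have v3 : v ^ 3 ∈ T ⊓ B := ⟨pow_mem v1 3, hg⟩
  have v4 : Nat.card (zpowers (v ^ 3)) = 4 := by rw [Nat.card_zpowers, orderOf_pow' v (by norm_num), v2]; rfl
  have big : ∀ {K : Subgroup Γ} {c : Γ}, K ≤ T ⊓ B → v ^ 3 ∈ K → c ∈ K → c ∉ zpowers (v ^ 3) → K = T ⊓ B :=
    fun {K c} h1 h2 h3 h4 => eq_of_le_of_card_ge h1 (by
      have d1 : Nat.card K ∣ 8 := hc ▸ card_dvd_of_le h1
      have d2 : 4 ∣ Nat.card K := v4 ▸ card_dvd_of_le (zpowers_le.2 h2)
      have d3 : Nat.card K ≠ 4 := fun e => h4 (eq_of_le_of_card_ge (zpowers_le.2 h2) (by rw [e, v4]) ▸ h3)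
      have := Nat.le_of_dvd (by norm_num) d1
      have : 0 < Nat.card K := Nat.card_pos
      omega)
  let C : Subgroup Γ := (T ⊓ B) ⊓ centralizer ((T ⊓ B : Subgroup Γ) : Set Γ)
  have c0 : C ≠ ⊥ := by
    have hp : IsPGroup 2 ↥(T ⊓ B) := IsPGroup.of_card (n := 3) hc
    haveI : Nontrivial ↥(T ⊓ B) := (nontrivial_iff_ne_bot _).2 f.nb
    obtain ⟨z, hz⟩ := (nontrivial_iff_exists_ne_one _).1 hp.center_nontrivial
    intro h
    have : (z : Γ) ∈ C := ⟨z.2, fun a ha => congrArg Subtype.val (mem_center_iff.1 hz.1 ⟨a, ha⟩)⟩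
    rw [h] at this
    exact hz.2 (Subtype.ext this)
  have c1 : ∀ g ∈ H ⊓ B, ∀ x ∈ C, g * x * g⁻¹ ∈ C := fun g hg x hx => ⟨f.conjA hg hx.1, fun a ha => by
    have := hx.2 _ (f.conjA (inv_mem hg) ha)
    calc a * (g * x * g⁻¹) = g * (g⁻¹ * a * g⁻¹⁻¹ * x) * g⁻¹ := by group
      _ = g * x * g⁻¹ * a := by rw [this]; group⟩
  have h6 : v ∈ B := f.mem_of_comm inf_le_left c0 c1 v1 fun c hcC => by
    by_cases h : c ∈ zpowers (v ^ 3)
    · obtain ⟨k, rfl⟩ := h
      exact (((Commute.refl v).pow_right 3).zpow_right k).eq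
    · exfalso
      have k1 := big (K := (T ⊓ B) ⊓ centralizer {v ^ 3}) inf_le_left ⟨v3, mem_centralizer_singleton_iff.2 rfl⟩
        ⟨hcC.1, mem_centralizer_singleton_iff.2 (hcC.2 _ v3).symm⟩ h
      have k2 := big (K := C) inf_le_left ⟨v3, fun a ha => mem_centralizer_singleton_iff.1 (k1.ge ha).2⟩ hcC h
      exact f.not_comm fun x hx a ha => (k2.ge hx).2 a ha
  have h7 := ord_dvd (U := T ⊓ B) ⟨v1, h6⟩
  rw [v2, hc] at h7
  exact absurd h7 (by decide)

/-- `|A| = p q ^ j` with at most the two extreme numbers of Sylow `p`-subgroups -/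
theorem pq_num (f : Fac M S H T B) {p q j : ℕ} (hp : p.Prime) (hq : q.Prime) (hpq : ¬ p ∣ q ^ j)
    (hc : Nat.card ↥(T ⊓ B) = p ^ 1 * q ^ j) (h : ∀ d, d ∣ q ^ j → d % p = 1 → d = 1 ∨ d = q ^ j) :
    B.relIndex T % p = 1 ∨ B.relIndex T % q = 1 := by
  have fa := Sp.boxRed.1 Γ M S H T B f
  have e1 : Nat.card ↥(T.subgroupOf S ⊓ B.subgroupOf S) = p ^ 1 * q ^ j := by
    rw [← hc]
    exact Nat.card_congr (subgroupOfEquivOfLe (inf_le_left.trans f.le : T ⊓ B ≤ S)).toEquiv
  have e2 : (T.subgroupOf S ⊓ B.subgroupOf S).relIndex (T.subgroupOf S) = B.relIndex T := by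
    rw [inf_relIndex_left, relIndex_subgroupOf f.le]
  rw [← e2]
  exact (Sp.boxLc S _ _ inf_le_left fa.lcX p 1 _ hp one_pos hpq e1).2.2.2 q j hq rfl rfl h

theorem no12 (f : Fac M S H T B) (hT : Nat.card T = 6072) (hc : Nat.card ↥(T ⊓ B) = 12) : False := by
  have h1 := Fac.card_mul T B
  rw [hT, hc] at h1
  have h2 := pq_num f (p := 3) (q := 2) (j := 2) (by decide) (by decide) (by decide) hc fun d hd h => by
    have := Nat.le_of_dvd (by norm_num) hd
    omega
  omega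

end Cfsg.Agent.SM.Mat
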