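import Cfsg.Agent.SM.Mat.Sm
import Cfsg.Agent.SM.Mat.M24A
import Cfsg.Agent.H444.FprMU
import Cfsg.Agent.S1589
import Cfsg.Agent.S1637
import Cfsg.Agent.S0387
import Cfsg.Agent.S0360
import Cfsg.Agent.S1550
import Cfsg.Agent.S2063

/-!
# SM (S3570), `S = M24`, `T = M23`: the three rows (helper55)
-/

set_option autoImplicit false
set_option linter.unusedSectionVars false
set_option linter.unusedVariables false
set_option linter.style.haveILetI false

namespace Cfsg.Agent.SM.Mat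

open Cfsg Subgroup MulAction Equiv
open scoped Pointwise symmDiff

/-- a subgroup of index 24 of `M24` fixes a point -/
theorem idx24 {U : Subgroup (Perm GolayPt)} (hU : U ≤ M24) (hc : Nat.card U = 10200960) :
    ∃ p : GolayPt, ∀ u ∈ U, u • p = p := by
  obtain ⟨x, hx, ox⟩ := exists_ord (U := U) (p := 23) (by decide) (by rw [hc]; decide)
  have h1 := fxs_mod' (A := orb U (none : GolayPt)) (by decide) ox fun a ha => smul_orb hx ha
  have h2 := fxs_le (hU hx) (k := 1) (m := 443520) (by decide) (by decide +kernel) (by rw [ox]; decide) (orb U none)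
  have h3 : (orb U (none : GolayPt)).card ≤ 24 := card_pt ▸ Finset.card_le_univ _
  have h4 := Finset.card_pos.2 ⟨_, self_orb U (none : GolayPt)⟩
  have one : ∀ A : Finset GolayPt, A.card = 1 → (∀ u ∈ U, ∀ c ∈ A, u • c ∈ A) → ∃ p : GolayPt, ∀ u ∈ U, u • p = p := fun A h hA => by
    obtain ⟨p, rfl⟩ := Finset.card_eq_one.1 h
    exact ⟨p, fun u hu => Finset.mem_singleton.1 (hA u hu p (Finset.mem_singleton_self p))⟩
  rcases (show (orb U (none : GolayPt)).card = 1 ∨ (orb U (none : GolayPt)).card = 23 ∨ (orb U (none : GolayPt)).card = 24 by omega)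
    with h | h | h
  · exact one _ h fun u hu c hc => smul_orb hu hc
  · exact one (Finset.univ \ orb U none) (by rw [Finset.card_sdiff_of_subset (Finset.subset_univ _), card_pt, h])
      (inv_sdiff (fun _ _ _ _ => Finset.mem_univ _) fun u hu c hc => smul_orb hu hc)
  · exfalso
    have h5 := card_orb U (none : GolayPt)
    have le : U ⊓ stabilizer (Perm GolayPt) (none : GolayPt) ≤ Spor.M23 := inf_le_inf_right _ hU
    have h6 := ((U ⊓ stabilizer (Perm GolayPt) (none : GolayPt)).subgroupOf Spor.M23).card_mul_index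
    rw [Nat.card_congr (subgroupOfEquivOfLe le).toEquiv, c23'] at h6
    rw [h, hc] at h5
    have h7 : ((U ⊓ stabilizer (Perm GolayPt) (none : GolayPt)).subgroupOf Spor.M23).index = 24 := by
      have h8 : Nat.card ↥(U ⊓ stabilizer (Perm GolayPt) (none : GolayPt)) = 425040 := by omega
      rw [h8] at h6
      omega
    have h8 := H444.FprMU.idx23 base (H := (U ⊓ stabilizer (Perm GolayPt) (none : GolayPt)).subgroupOf Spor.M23) fun e => by
      rw [e, index_top] at h7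
      omega
    omega

/-- a model in which `T` is the standard `M23` -/
theorem exists_md {Γ : Type} [Group Γ] [Finite Γ] {S T : Subgroup Γ} (e : S ≃* M24) (hT : T ≤ S) (hc : Nat.card T = 10200960) :
    ∃ e' : S ≃* M24, md e' T = Spor.M23 := by
  obtain ⟨p, hp⟩ := idx24 (md_le e T) ((card_md e hT).trans hc)
  obtain ⟨g, hg, g1⟩ := move24_pt p none
  refine ⟨e.trans (MulAut.conj ⟨g, hg⟩), eq_of_le_of_card_ge ?_ (by rw [card_md _ hT, hc, c23'])⟩
  rintro _ ⟨t, ht, rfl⟩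
  refine ⟨(_ : M24).2, ?_⟩
  show g ((e t : Perm GolayPt) (g⁻¹ none)) = none
  have h1 : (e t : Perm GolayPt) p = p := hp _ ((mem_md e t).2 ht)
  rw [← g1, Perm.inv_def, symm_apply_apply, h1]

/-- the perfect code -/
theorem near (O : Finset GolayPt) :
    ∃ C ∈ supports (golayCode : Set (GolayPt → ZMod 2)), ((O ∆ C).erase none).card ≤ 3 := by
  obtain ⟨c, ⟨⟨w, hw, hc⟩, hd⟩, -⟩ := S1637.result fun x => if some x ∈ O then 1 else 0
  refine ⟨support₂ w, ⟨w, hw, rfl⟩, le_trans ?_ hd⟩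
  refine le_trans (Finset.card_le_card fun a ha => ?_) (Finset.card_image_le (f := (some : ZMod 23 → GolayPt)))
  obtain ⟨h1, h2⟩ := Finset.mem_erase.1 ha
  obtain ⟨x, rfl⟩ := Option.ne_none_iff_exists'.1 h1
  refine Finset.mem_image.2 ⟨x, Finset.mem_filter.2 ⟨Finset.mem_univ _, ?_⟩, rfl⟩
  rw [hc]
  beta_reduce
  rw [Finset.mem_symmDiff, support₂, Finset.mem_filter] at h2
  have k : ∀ z : ZMod 2, ¬ z ≠ 0 → 1 ≠ z := by decide
  rcases h2 with ⟨h2, h3⟩ | ⟨h2, h3⟩
  · rw [if_pos h2]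
    exact k _ fun h => h3 ⟨Finset.mem_univ _, h⟩
  · rw [if_neg h3]
    exact h2.2.symm

theorem near_unique {O C C' : Finset GolayPt} (hC : C ∈ supports (golayCode : Set (GolayPt → ZMod 2)))
    (hC' : C' ∈ supports (golayCode : Set (GolayPt → ZMod 2))) (h : ((O ∆ C).erase none).card ≤ 3)
    (h' : ((O ∆ C').erase none).card ≤ 3) : C = C' := by
  have h1 := SporadicA.Dodecad.card_mem_supports (SporadicA.Dodecad.symmDiff_mem_supports hC hC')
  have h2 : C ∆ C' ⊆ insert none ((O ∆ C).erase none ∪ (O ∆ C').erase none) := fun a ha => by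
    simp only [Finset.mem_insert, Finset.mem_union, Finset.mem_erase, Finset.mem_symmDiff] at ha ⊢
    tauto
  have h3 := (Finset.card_le_card h2).trans ((Finset.card_insert_le _ _).trans (Nat.succ_le_succ (Finset.card_union_le _ _)))
  exact symmDiff_eq_bot.1 (Finset.card_eq_zero.1 (by omega))

theorem smul_near {g : Perm GolayPt} (hg : g • (none : GolayPt) = none) (O C : Finset GolayPt) :
    g • (O ∆ C).erase none = ((g • O) ∆ (g • C)).erase none := by
  ext a
  obtain ⟨b, rfl⟩ := MulAction.surjective g a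
  simp only [Finset.smul_mem_smul_finset_iff, Finset.mem_erase, Finset.mem_symmDiff]
  refine and_congr_left fun _ => not_congr ⟨fun h => by rw [h, hg], fun h => MulAction.injective g (h.trans hg.symm)⟩

variable {H Y : Subgroup (Perm GolayPt)}

theorem trans24 (f : Fac M24 M24 H Spor.M23 Y) (q : GolayPt) : ∃ y ∈ Y, y • (none : GolayPt) = q := by
  obtain ⟨g, hg, h⟩ := move24_pt q none
  obtain ⟨t, ht, b, hb, rfl⟩ := f.fac g hg
  refine ⟨b⁻¹, inv_mem hb, inv_smul_eq_iff.2 (MulAction.injective t ?_)⟩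
  exact (show t • (none : GolayPt) = none from ht.2).trans h.symm

theorem no_oct (f : Fac M24 M24 H Spor.M23 Y) {o : Finset GolayPt} (ho : o ∈ octads) (hX : ∀ x ∈ Spor.M23 ⊓ Y, x • o = o)
    (h5 : 5 ∣ Nat.card ↥(Spor.M23 ⊓ Y)) (h7 : 7 ∣ Nat.card ↥(Spor.M23 ⊓ Y)) : False := by
  have iv : ∀ x ∈ Spor.M23 ⊓ Y, ∀ c ∈ o, x • c ∈ o := fun x hx c hc => inv_of_smul_eq (hX x hx) hc
  obtain ⟨q, q0, q5, q7⟩ : ∃ q, (q ∈ o ↔ none ∉ o) ∧ ¬ 5 ∣ (orb (Spor.M23 ⊓ Y) q).card ∧ ¬ 7 ∣ (orb (Spor.M23 ⊓ Y) q).card := by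
    by_cases h : none ∈ o
    · obtain ⟨q, h1, h2⟩ := exists_cop 16 (Finset.univ \ o) (by rw [Finset.card_sdiff_of_subset (Finset.subset_univ _), card_pt, ho.2])
        (inv_sdiff (fun _ _ _ _ => Finset.mem_univ _) iv) (by omega)
      exact ⟨q, iff_of_false (Finset.mem_sdiff.1 h1).2 (not_not.2 h), h2⟩
    · obtain ⟨q, h1, h2⟩ := exists_cop 8 o ho.2 iv (by omega)
      exact ⟨q, iff_of_true h1 h, h2⟩
  have hq := card_orb (Spor.M23 ⊓ Y) q
  obtain ⟨u, hu, ou⟩ := exists_ord (by decide) (((Nat.Prime.dvd_mul (by decide)).1 (hq ▸ h5)).resolve_right q5)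
  obtain ⟨v, hv, ov⟩ := exists_ord (by decide) (((Nat.Prime.dvd_mul (by decide)).1 (hq ▸ h7)).resolve_right q7)
  obtain ⟨y, hy, yq⟩ := trans24 f q
  have o' := smul_oct (f.BM hy) ho
  have iv' : ∀ z ∈ (Spor.M23 ⊓ Y) ⊓ stabilizer (Perm GolayPt) q, ∀ c ∈ y • o, z • c ∈ y • o := fun z hz c hc => by
    have h1 : y⁻¹ * z * y ∈ Y := mul_mem (mul_mem (inv_mem hy) hz.1.2) hy
    have h2 := hX _ ⟨⟨f.BM h1, show (y⁻¹ * z * y) • (none : GolayPt) = none by
      rw [mul_smul, mul_smul, yq, show z • q = q from hz.2, ← yq, inv_smul_smul]⟩, h1⟩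
    refine inv_of_smul_eq ?_ hc
    rw [mul_smul, mul_smul, inv_smul_eq_iff] at h2
    exact h2
  have ne : y • o ≠ o := fun e => by
    have h1 : q ∈ y • o ↔ none ∈ o := by rw [← yq, Finset.smul_mem_smul_finset_iff]
    rw [e] at h1
    tauto
  have i4 : (y • o ∩ o).card < 5 := by
    by_contra h
    exact ne (SporadicA.Dodecad.octad_eq_of_five o' ho (not_lt.1 h) Finset.inter_subset_left Finset.inter_subset_right)
  have a1 := fxs_mod' (by decide) ou (iv u hu.1)
  have a2 := fxs_mod' (by decide) ou (iv' u hu)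
  have a3 := fxs5 hu.1.1.1 ou o
  have a4 := fxs5 hu.1.1.1 ou (y • o)
  have a5 := (Finset.card_le_card (Finset.union_subset (fxs_mono (zpowers u) (Finset.subset_univ (y • o)))
    (fxs_mono (zpowers u) (Finset.subset_univ o)))).trans (fxs5 hu.1.1.1 ou Finset.univ)
  have a6 := Finset.card_union_add_card_inter (fxs (zpowers u) (y • o)) (fxs (zpowers u) o)
  have a7 := Finset.card_le_card (Finset.inter_subset_inter (fxs_subset (zpowers u) (y • o)) (fxs_subset (zpowers u) o))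
  have b1 := fxs_mod' (by decide) ov (iv v hv.1)
  have b2 := fxs7 hv.1.1.1 ov o
  have b3 := Finset.card_le_card (show y • o ∩ o ⊆ fxs (zpowers v) o from fun a ha => mem_fxs_zpowers.2
    ⟨(Finset.mem_inter.1 ha).2, fix_of_lt (by decide) ov (fun c hc => Finset.mem_inter.2
      ⟨iv' v hv c (Finset.mem_inter.1 hc).1, iv v hv.1 c (Finset.mem_inter.1 hc).2⟩) (by omega) ha⟩)
  rw [ho.2] at a1 b1
  rw [o'.2] at a2
  omega

theorem cov23 (f : Fac M24 M24 H Spor.M23 Y) : Spor.M23 ⊓ Y ⋖ Spor.M23 := cov_of_inner f (inner_of_out S2063.result)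

theorem not253 {T : Subgroup (Perm GolayPt)} (f : Fac M24 M24 H T Y) : Y.relIndex T ≠ 253 :=
  f.relIndex_eq ▸ S1589.result.2.2.2 (Y.subgroupOf M24)

theorem stab_of (f : Fac M24 M24 H Spor.M23 Y) {A : Finset GolayPt} (hX : ∀ x ∈ Spor.M23 ⊓ Y, x • A = A) {a b : GolayPt}
    (ha : a ∈ A) (hb : b ∉ A) (a0 : a ≠ none) (b0 : b ≠ none) :
    Spor.M23 ⊓ Y = Spor.M23 ⊓ stabilizer (Perm GolayPt) A := by
  refine eq_stab (cov23 f) hX ?_
  obtain ⟨g, g1, g2, g3⟩ := move24 (F := {none}) (A := {a}) (B := {b}) (by simp) (by simp) (by simpa using a0) (by simpa using b0)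
  refine ⟨g, ⟨g1, g2 _ (Finset.mem_singleton_self _)⟩, fun e => hb ?_⟩
  rw [Finset.smul_finset_singleton, Finset.singleton_inj] at g3
  exact g3 ▸ inv_of_smul_eq e ha

theorem exists_pt {A : Finset GolayPt} (h : 2 ≤ A.card) : ∃ a ∈ A, a ≠ none := by
  obtain ⟨a, ha⟩ := Finset.card_pos.1 (show 0 < (A.erase none).card by
    have := Finset.pred_card_le_card_erase (s := A) (a := none)
    omega)
  exact ⟨a, (Finset.mem_erase.1 ha).2, (Finset.mem_erase.1 ha).1⟩

theorem stab_of' (f : Fac M24 M24 H Spor.M23 Y) {A : Finset GolayPt} (hX : ∀ x ∈ Spor.M23 ⊓ Y, x • A = A)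
    (h1 : ∃ a ∈ A, a ≠ none) (h2 : A.card ≤ 22) : Spor.M23 ⊓ Y = Spor.M23 ⊓ stabilizer (Perm GolayPt) A := by
  obtain ⟨a, ha, a0⟩ := h1
  obtain ⟨b, hb, b0⟩ := exists_pt (A := Aᶜ) (by rw [Finset.card_compl, show Fintype.card GolayPt = 24 from card_pt]; omega)
  exact stab_of f hX ha (Finset.mem_compl.1 hb) a0 b0

theorem smul_compl_of {g : Perm GolayPt} {A : Finset GolayPt} (h : g • A = A) : g • Aᶜ = Aᶜ := smul_eq_of_inv fun c hc =>
  Finset.mem_compl.2 fun h1 => Finset.mem_compl.1 hc (Finset.smul_mem_smul_finset_iff g |>.1 (h.symm ▸ h1))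

theorem case_dod (f : Fac M24 M24 H Spor.M23 Y) {d : Finset GolayPt} (hd : d ∈ dodecads) (h0 : none ∈ d)
    (hX : ∀ x ∈ Spor.M23 ⊓ Y, x • d = d) : Nat.card ↥(Spor.M23 ⊓ Y) = 7920 := by
  rw [stab_of' f hX (exists_pt (by rw [hd.2]; decide)) (by rw [hd.2]; decide), ← S0387.result d hd none h0,
    ← card_map_of_injective M24.subtype_injective]
  congr 2
  ext g
  exact ⟨fun h => ⟨⟨g, h.1.1⟩, ⟨h.2, h.1.2⟩, rfl⟩, fun ⟨x, h, e⟩ => e ▸ ⟨⟨x.2, h.2⟩, h.1⟩⟩

theorem case_oct (f : Fac M24 M24 H Spor.M23 Y) (hc : Nat.card ↥(Spor.M23 ⊓ Y) ∈ c23) {o : Finset GolayPt} (ho : o ∈ octads)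
    (hX : ∀ x ∈ Spor.M23 ⊓ Y, x • o = o) : False := by
  have h1 := card_orb Spor.M23 o
  rw [← stab_of' f hX (exists_pt (by rw [ho.2]; decide)) (by rw [ho.2]; decide), c23'] at h1
  have h2 : (orb Spor.M23 o).card ≤ 759 := by
    rw [← S0360.result, ← Set.ncard_coe_finset]
    refine Set.ncard_le_ncard (fun c hc => ?_) (Set.toFinite _)
    obtain ⟨u, hu, rfl⟩ := mem_orb.1 (Finset.mem_coe.1 hc)
    exact smul_oct hu.1 ho
  have h3 : 10200960 ≤ Nat.card ↥(Spor.M23 ⊓ Y) * 759 := h1 ▸ Nat.mul_le_mul_left _ h2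
  have h4 : ∀ c ∈ c23, 10200960 ≤ c * 759 → 5 ∣ c ∧ 7 ∣ c := by decide
  exact no_oct f ho hX (h4 _ hc h3).1 (h4 _ hc h3).2

theorem case_small (f : Fac M24 M24 H Spor.M23 Y) (hc : Nat.card ↥(Spor.M23 ⊓ Y) ∈ c23) {R : Finset GolayPt} (h0 : none ∉ R)
    (h1 : 0 < R.card) (h3 : R.card ≤ 3) (hX : ∀ x ∈ Spor.M23 ⊓ Y, x • R = R) : Nat.card ↥(Spor.M23 ⊓ Y) = 5760 := by
  have k1 := card_orb Spor.M23 R
  obtain ⟨a, ha⟩ := Finset.card_pos.1 h1
  rw [← stab_of' f hX ⟨a, ha, fun e => h0 (e ▸ ha)⟩ (by omega), c23'] at k1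
  have k2 : orb Spor.M23 R = Finset.powersetCard R.card (Finset.univ.erase none) := by
    ext A
    rw [mem_orb, Finset.mem_powersetCard]
    constructor
    · rintro ⟨u, hu, rfl⟩
      refine ⟨fun c hc => Finset.mem_erase.2 ⟨fun e => h0 ?_, Finset.mem_univ _⟩, Finset.card_smul_finset _ _⟩
      rwa [e, ← show u • (none : GolayPt) = none from hu.2, Finset.smul_mem_smul_finset_iff] at hc
    · rintro ⟨j1, j2⟩
      obtain ⟨g, g1, g2, g3⟩ := move24 (F := {none}) (A := R) (B := A) (by rw [Finset.card_singleton]; omega) j2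
        (Finset.disjoint_singleton_right.2 h0) (Finset.disjoint_singleton_right.2 fun h => (Finset.mem_erase.1 (j1 h)).1 rfl)
      exact ⟨g, ⟨g1, g2 _ (Finset.mem_singleton_self _)⟩, g3⟩
  rw [k2, Finset.card_powersetCard, Finset.card_erase_of_mem (Finset.mem_univ _), card_pt] at k1
  have k3 := not253 f
  have k4 := Fac.card_mul Spor.M23 Y
  rw [c23'] at k4
  rcases (show R.card = 1 ∨ R.card = 2 ∨ R.card = 3 by omega) with h | h | h <;> rw [h] at k1
  · rw [show Nat.card ↥(Spor.M23 ⊓ Y) = 443520 from Nat.eq_of_mul_eq_mul_right (m := 23) (by decide) k1] at hc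
    exact absurd hc (by decide)
  · rw [show Nat.card ↥(Spor.M23 ⊓ Y) = 40320 from Nat.eq_of_mul_eq_mul_right (m := 253) (by decide) k1] at k4
    omega
  · exact Nat.eq_of_mul_eq_mul_right (m := 1771) (by decide) k1

/-- **the three rows** -/
theorem rows23 (f : Fac M24 M24 H Spor.M23 Y) (hc : Nat.card ↥(Spor.M23 ⊓ Y) ∈ c23) :
    Nat.card ↥(Spor.M23 ⊓ Y) = 253 ∨ Nat.card ↥(Spor.M23 ⊓ Y) = 5760 ∨ Nat.card ↥(Spor.M23 ⊓ Y) = 7920 := by
  by_cases h23 : 23 ∣ Nat.card ↥(Spor.M23 ⊓ Y)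
  · exact Or.inl ((by decide : ∀ c ∈ c23, 23 ∣ c → c = 253) _ hc h23)
  right
  set O := orb (Spor.M23 ⊓ Y) (some 0 : GolayPt) with hO
  have o1 : ∀ x ∈ Spor.M23 ⊓ Y, x • O = O := fun x hx => smul_eq_of_inv fun c hc => smul_orb hx hc
  have o2 : none ∉ O := fun h => by
    obtain ⟨u, hu, e⟩ := mem_orb.1 h
    exact absurd (MulAction.injective u (e.trans (show u • (none : GolayPt) = none from hu.1.2).symm)) (by simp)
  have o3 : 0 < O.card := Finset.card_pos.2 ⟨_, self_orb _ _⟩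
  have o4 : O.card ≠ 23 := fun h => h23 ⟨_, by rw [← card_orb (Spor.M23 ⊓ Y) (some 0 : GolayPt), ← hO, h, mul_comm]⟩
  have o5 : (insert none O).card ≤ 24 := card_pt ▸ Finset.card_le_univ _
  rw [Finset.card_insert_of_notMem o2] at o5
  obtain ⟨C, hC, h3⟩ := near O
  have k1 : ∀ x ∈ Spor.M23 ⊓ Y, x • C = C := fun x hx => near_unique (O := O) (smul_supp hx.1.1 hC) hC (by
    have := smul_near hx.1.2 O C
    rw [o1 x hx] at this
    rwa [← this, Finset.card_smul_finset]) h3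
  rcases Nat.eq_zero_or_pos ((O ∆ C).erase none).card with h | h
  swap
  · exact Or.inl (case_small f hc (Finset.notMem_erase _ _) h h3 fun x hx => by rw [smul_near hx.1.2, o1 x hx, k1 x hx])
  right
  have k2 : ∀ a, a ≠ none → (a ∈ O ↔ a ∈ C) := fun a ha => by
    have : a ∉ (O ∆ C).erase none := by rw [Finset.card_eq_zero.1 h]; exact Finset.notMem_empty _
    rw [Finset.mem_erase, Finset.mem_symmDiff] at this
    tauto
  have k3 : O.card ≤ C.card := Finset.card_le_card fun a ha => (k2 a fun e => o2 (e ▸ ha)).1 ha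
  have k4 : C.card ≤ O.card + 1 := (Finset.card_le_card fun a ha => by
    by_cases e : a = none
    · exact Finset.mem_insert.2 (Or.inl e)
    · exact Finset.mem_insert_of_mem ((k2 a e).2 ha)).trans (Finset.card_insert_le none O)
  have k5 : ∀ x ∈ Spor.M23 ⊓ Y, x • Cᶜ = Cᶜ := fun x hx => smul_compl_of (k1 x hx)
  rcases SporadicA.Dodecad.card_mem_supports hC with j | j | j | j | j
  · omega
  · exact (case_oct f hc ⟨hC, j⟩ k1).elim
  · by_cases e : none ∈ C
    · exact case_dod f ⟨hC, j⟩ e k1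
    · exact case_dod f (SporadicA.Dodecad.compl_dodecad ⟨hC, j⟩) (Finset.mem_compl.2 e) k5
  · exact (case_oct f hc ⟨SporadicA.Dodecad.compl_mem_supports hC, by
      rw [Finset.card_compl, show Fintype.card GolayPt = 24 from card_pt, j]⟩ k5).elim
  · omega

end Cfsg.Agent.SM.Mat
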