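import Cfsg.Agent.SM.Mat.M24B
import Cfsg.Agent.SM.Rig
import Cfsg.Agent.S2064

/-!
# SM (S3570), `S = M24`: the rows, and the uniqueness of the overgroup for `T = M23` (helper55)
-/

set_option autoImplicit false
set_option linter.unusedSectionVars false
set_option linter.unusedVariables false
set_option linter.style.haveILetI false

namespace Cfsg.Agent.SM.Mat

open Cfsg Subgroup MulAction Equiv
open scoped Pointwise

variable {H Y H₁ Y₁ H₂ Y₂ : Subgroup (Perm GolayPt)}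

theorem cardY (f : Fac M24 M24 H Spor.M23 Y) : Nat.card Y = 24 * Nat.card ↥(Spor.M23 ⊓ Y) := by
  have h := f.card_eq
  rw [inf_eq_right.2 f.BM, c24, c23'] at h
  omega

theorem sext (f : Fac M24 M24 H Spor.M23 Y) (hc : Nat.card ↥(Spor.M23 ⊓ Y) = 5760) {u : Perm GolayPt} (hu : u ∈ Y)
    (ou : orderOf u = 5) : ∃ Z ∈ sextets, fxs (zpowers u) (Finset.univ : Finset GolayPt) ∈ Z ∧
      (fxs (zpowers u) (Finset.univ : Finset GolayPt)).card = 4 ∧ ∀ y ∈ M24, y ∈ Y ↔ y • Z = Z := by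
  obtain ⟨Z, hZ, h⟩ := S1589.result.2.2.1 (Y.subgroupOf M24) (f.relIndex_eq.symm.trans (rel_of_card c23' hc rfl))
  have st : ∀ y ∈ M24, y ∈ Y ↔ y • Z = Z := fun y hy => SetLike.ext_iff.1 h ⟨y, hy⟩
  have h1 := fxs_mod' (A := Z) (by decide) ou fun a ha => inv_of_smul_eq ((st u (f.BM hu)).1 hu) ha
  rw [hZ.1] at h1
  obtain ⟨t, ht⟩ := Finset.card_pos.1 (show 0 < (fxs (zpowers u) Z).card by omega)
  obtain ⟨t1, t2⟩ := mem_fxs_zpowers.1 ht
  have t4 := hZ.2.1 t t1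
  have h2 : t = fxs (zpowers u) (Finset.univ : Finset GolayPt) := Finset.eq_of_subset_of_card_le (fun a ha =>
    mem_fxs_zpowers.2 ⟨Finset.mem_univ _, fix_of_lt (by decide) ou (fun c hc => inv_of_smul_eq t2 hc) (by omega) ha⟩)
    (t4 ▸ fxs5 (f.BM hu) ou _)
  exact ⟨Z, hZ, h2 ▸ t1, h2 ▸ t4, st⟩

theorem uniq_sext (f₁ : Fac M24 M24 H₁ Spor.M23 Y₁) (f₂ : Fac M24 M24 H₂ Spor.M23 Y₂) (h : Spor.M23 ⊓ Y₁ = Spor.M23 ⊓ Y₂)
    (hc : Nat.card ↥(Spor.M23 ⊓ Y₁) = 5760) : Y₁ = Y₂ := by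
  obtain ⟨u, hu, ou⟩ := exists_ord (U := Spor.M23 ⊓ Y₁) (p := 5) (by decide) (by rw [hc]; decide)
  obtain ⟨Z₁, a1, a2, a3, a4⟩ := sext f₁ hc hu.2 ou
  obtain ⟨Z₂, b1, b2, -, b4⟩ := sext f₂ (h ▸ hc) (h.le hu).2 ou
  obtain rfl : Z₁ = Z₂ := (S1550.result.1 _ a3).unique ⟨a1, a2⟩ ⟨b1, b2⟩
  ext y
  exact ⟨fun hy => (b4 y (f₁.BM hy)).2 ((a4 y (f₁.BM hy)).1 hy), fun hy => (a4 y (f₂.BM hy)).2 ((b4 y (f₂.BM hy)).1 hy)⟩

theorem cent_x {x g : Perm GolayPt} (hx : x ∈ M24) (ox : orderOf x = 11) (hg : g ∈ M24) (h : g * x * g⁻¹ = x) : g ∈ zpowers x := by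
  have o : orderOf (⟨x, hx⟩ : M24) = 11 := by rw [orderOf_mk, ox]
  have h1 : zpowers (⟨x, hx⟩ : M24) = centralizer {⟨x, hx⟩} := eq_of_le_of_card_ge
    (zpowers_le.2 (mem_centralizer_singleton_iff.2 rfl)) (by rw [H715.Fpr.MathData.cent11 o, Nat.card_zpowers, o])
  obtain ⟨k, hk⟩ : (⟨g, hg⟩ : M24) ∈ zpowers (⟨x, hx⟩ : M24) :=
    h1 ▸ mem_centralizer_singleton_iff.2 (Subtype.ext (mul_inv_eq_iff_eq_mul.1 h))
  exact ⟨k, congrArg Subtype.val hk⟩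

/-- Witt's argument: an element of `Y` inverts `x` and exchanges its two fixed points -/
theorem witt (f : Fac M24 M24 H Spor.M23 Y) {x : Perm GolayPt} (hx : x ∈ Spor.M23 ⊓ Y) (ox : orderOf x = 11) {p : GolayPt}
    (p0 : p ≠ none) (hp : x • p = p) : ∃ t ∈ Y, t • (none : GolayPt) = p ∧ t * x * t⁻¹ = x⁻¹ := by
  obtain ⟨y, hy, yp⟩ := trans24 f p
  have h1 : y⁻¹ * x * y⁻¹⁻¹ ∈ Y := mul_mem (mul_mem (inv_mem hy) hx.2) (inv_mem (inv_mem hy))
  have h2 : y⁻¹ * x * y⁻¹⁻¹ ∈ Spor.M23 ⊓ Y := ⟨⟨f.BM h1, show (y⁻¹ * x * y⁻¹⁻¹) • (none : GolayPt) = none by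
    rw [inv_inv, mul_smul, mul_smul, yp, hp, ← yp, inv_smul_smul]⟩, h1⟩
  obtain ⟨k, hk⟩ := exists_conj_zpowers (G := ↥(Spor.M23 ⊓ Y)) (p := 11) (by decide)
    (fun h => absurd (h.trans (c23' ▸ card_dvd_of_le (inf_le_left : Spor.M23 ⊓ Y ≤ _))) (by decide))
    (x := ⟨x, hx⟩) (y := ⟨_, h2⟩) (by rw [orderOf_mk, ox]) (by rw [orderOf_mk, ord_conj, ox])
  set g : Perm GolayPt := k * y⁻¹ with hg
  have g1 : g ∈ Y := mul_mem k.2.2 (inv_mem hy)
  have g2 : g * x * g⁻¹ ∈ zpowers x := by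
    obtain ⟨i, hi⟩ := hk
    exact ⟨i, (congrArg Subtype.val hi).trans (show (k : Perm GolayPt) * (y⁻¹ * x * y⁻¹⁻¹) * (k : Perm GolayPt)⁻¹ = _ by
      rw [hg]; group)⟩
  have g3 : g • p = none := by rw [hg, mul_smul, ← yp, inv_smul_smul]; exact k.2.1.2
  have fx : ∀ z ∈ zpowers x, z • (none : GolayPt) = none := fun z hz => (zpowers_le.2 hx.1 hz).2
  have g4 : g • (none : GolayPt) = p := by
    have k1 : x • g • (none : GolayPt) = g • none := by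
      have := fx _ ((mem_normalizer_iff.1 (inv_mem (mem_normalizer_zpowers g2)) x).1 (mem_zpowers x))
      rwa [inv_inv, mul_smul, mul_smul, inv_smul_eq_iff] at this
    by_contra ne
    have k2 : g • (none : GolayPt) ≠ none := fun e => p0 (MulAction.injective g (g3.trans e.symm))
    have k3 := (Finset.card_le_card (show ({none, p, g • none} : Finset GolayPt) ⊆ fxs (zpowers x) Finset.univ from fun a ha => by
      simp only [Finset.mem_insert, Finset.mem_singleton] at ha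
      rcases ha with rfl | rfl | rfl
      exacts [mem_fxs_zpowers.2 ⟨Finset.mem_univ _, hx.1.2⟩, mem_fxs_zpowers.2 ⟨Finset.mem_univ _, hp⟩,
        mem_fxs_zpowers.2 ⟨Finset.mem_univ _, k1⟩])).trans (fxs11 hx.1.1 ox _)
    rw [Finset.card_eq_three.2 ⟨_, _, _, p0.symm, k2.symm, Ne.symm ne, rfl⟩] at k3
    omega
  have g5 : (g ^ 5) • (none : GolayPt) = p := by
    simp only [pow_succ, pow_zero, one_mul, mul_smul, g3, g4]
  obtain ⟨m, hm⟩ := (mem_powers_iff_mem_zpowers.2 g2 : _)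
  have pw : ∀ j : ℕ, g ^ j * x * (g ^ j)⁻¹ = x ^ m ^ j := fun j => by
    induction j with
    | zero => simp
    | succ j ih =>
      have hm' : x ^ m = g * x * g⁻¹ := hm
      rw [pow_succ' m, pow_mul, hm', conj_pow, ← ih, pow_succ']
      group
  refine ⟨g ^ 5, pow_mem g1 5, g5, ?_⟩
  have e := pw 5
  rw [← pow_mod_orderOf x, ox, Nat.pow_mod] at e
  have c : ∀ r < 11, r ^ 5 % 11 = 0 ∨ r ^ 5 % 11 = 1 ∨ r ^ 5 % 11 = 10 := by decide
  rcases c _ (Nat.mod_lt m (by decide)) with h | h | h <;> rw [h] at e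
  · have := ord_conj (g ^ 5) x
    rw [e, pow_zero, orderOf_one] at this
    omega
  · exact (p0 (g5.symm.trans (fx _ (cent_x hx.1.1 ox (f.BM (pow_mem g1 5)) (e.trans (pow_one x)))))).elim
  · rw [e, eq_inv_iff_mul_eq_one, ← pow_succ, show 10 + 1 = orderOf x from ox.symm, pow_orderOf_eq_one]

theorem uniq11 (f₁ : Fac M24 M24 H₁ Spor.M23 Y₁) (f₂ : Fac M24 M24 H₂ Spor.M23 Y₂) (h : Spor.M23 ⊓ Y₁ = Spor.M23 ⊓ Y₂)
    (h11 : 11 ∣ Nat.card ↥(Spor.M23 ⊓ Y₁)) (hc : Nat.card ↥(Spor.M23 ⊓ Y₁) ≤ 7920) : Y₁ = Y₂ := by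
  obtain ⟨x, hx, ox⟩ := exists_ord (by decide) h11
  have a1 := fxs_mod' (A := (Finset.univ : Finset GolayPt)) (by decide) ox fun _ _ => Finset.mem_univ _
  rw [card_pt] at a1
  obtain ⟨p, hp, p0⟩ := exists_pt (A := fxs (zpowers x) Finset.univ) (by omega)
  have xp := (mem_fxs_zpowers.1 hp).2
  obtain ⟨t, t1, t2, t3⟩ := witt f₁ hx ox p0 xp
  obtain ⟨s, s1, -, s3⟩ := witt f₂ (h.le hx) ox p0 xp
  have t4 : t ∈ Y₂ := by
    have k := cent_x hx.1.1 ox (mul_mem (inv_mem (f₂.BM s1)) (f₁.BM t1)) (by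
      calc s⁻¹ * t * x * (s⁻¹ * t)⁻¹ = s⁻¹ * (t * x * t⁻¹) * s := by group
        _ = x := by rw [t3, ← s3]; group)
    have := mul_mem s1 (zpowers_le.2 (h.le hx).2 k)
    rwa [mul_inv_cancel_left] at this
  have xk : Spor.M23 ⊓ Y₁ ≤ Y₁ ⊓ Y₂ := le_inf inf_le_right (h.le.trans inf_le_right)
  have k0 : (Y₁ ⊓ Y₂) ⊓ stabilizer (Perm GolayPt) (none : GolayPt) = Spor.M23 ⊓ Y₁ :=
    le_antisymm (fun g hg => ⟨⟨f₁.BM hg.1.1, hg.2⟩, hg.1.1⟩) fun g hg => ⟨xk hg, hg.1.2⟩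
  have k1 := card_orb (Y₁ ⊓ Y₂) (none : GolayPt)
  rw [k0] at k1
  set O := orb (Y₁ ⊓ Y₂) (none : GolayPt) with hO
  have pO : p ∈ O := mem_orb.2 ⟨t, ⟨t1, t4⟩, t2⟩
  have k2 : O.card ∣ 24 := by
    have := card_dvd_of_le (inf_le_left : Y₁ ⊓ Y₂ ≤ Y₁)
    rw [← k1, cardY f₁, mul_comm 24] at this
    exact Nat.dvd_of_mul_dvd_mul_left Nat.card_pos this
  have k3 := fxs_mod' (A := O) (by decide) ox fun a ha => smul_orb (xk hx) ha
  have k4 := fxs11 hx.1.1 ox O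
  have sub : ({none, p} : Finset GolayPt) ⊆ fxs (zpowers x) O := fun a ha => by
    rcases Finset.mem_insert.1 ha with rfl | ha
    · exact mem_fxs_zpowers.2 ⟨self_orb _ _, hx.1.2⟩
    · rw [Finset.mem_singleton.1 ha]
      exact mem_fxs_zpowers.2 ⟨pO, xp⟩
  have k5 := Finset.card_le_card sub
  rw [Finset.card_pair p0.symm] at k5
  have k6 := Nat.le_of_dvd (by decide) k2
  rcases (show O.card = 2 ∨ O.card = 13 ∨ O.card = 24 by omega) with j | j | j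
  · exfalso
    have e : ({none, p} : Finset GolayPt) = O :=
      Finset.eq_of_subset_of_card_le (sub.trans (fxs_subset _ _)) (by rw [j, Finset.card_pair p0.symm])
    have k7 := stab_of' f₁ (A := O) (fun g hg => smul_eq_of_inv fun c hc => smul_orb (xk hg) hc) ⟨p, pO, p0⟩ (by omega)
    have k8 := card_orb Spor.M23 p
    have k9 : Nat.card ↥(Spor.M23 ⊓ stabilizer (Perm GolayPt) p) ≤ 7920 := le_trans (card_le_of_le (k7 ▸ fun g hg => ⟨hg.1, by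
      show g • O = O
      rw [← e, Finset.smul_finset_insert, Finset.smul_finset_singleton, show g • p = p from hg.2,
        show g • (none : GolayPt) = none from hg.1.2]⟩)) hc
    have k10 : (orb Spor.M23 p).card ≤ 24 := card_pt ▸ Finset.card_le_univ _
    have := Nat.mul_le_mul k9 k10
    rw [k8, c23'] at this
    omega
  · rw [j] at k2
    exact absurd k2 (by decide)
  · rw [j, mul_comm] at k1
    exact (eq_of_le_of_card_ge inf_le_left (by rw [← k1, cardY f₁])).symm.trans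
      (eq_of_le_of_card_ge inf_le_right (by rw [← k1, cardY f₂, h]))

theorem mem_c23 (f : Fac M24 M24 H Spor.M23 Y) : Nat.card ↥(Spor.M23 ⊓ Y) ∈ c23 := by
  have h := sieve f (MulEquiv.refl _) (H715.Fpr.M24.ctx base) sv24
  rw [c23', List.mem_append] at h
  rcases h with h | h
  · simp at h
  · obtain ⟨c, h1, h2⟩ := List.mem_map.1 h
    exact (Prod.mk.inj h2).2 ▸ h1

theorem uniq23 (f₁ : Fac M24 M24 H₁ Spor.M23 Y₁) (f₂ : Fac M24 M24 H₂ Spor.M23 Y₂) (h : Spor.M23 ⊓ Y₁ = Spor.M23 ⊓ Y₂) :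
    Y₁ = Y₂ := by
  rcases rows23 f₁ (mem_c23 f₁) with e | e | e
  · exact uniq11 f₁ f₂ h (by rw [e]; decide) (by omega)
  · exact uniq_sext f₁ f₂ h e
  · exact uniq11 f₁ f₂ h (by rw [e]; decide) (by omega)

theorem prs24 (hc : Y.relIndex M24 = 276) : Prs M24 Y := by
  obtain ⟨δ, hδ, h⟩ := S1589.result.2.1 (Y.subgroupOf M24) hc
  refine prs_of (D := Finset.univ) le_rfl dod (by rw [Finset.univ_inter, dod.2]; decide) (Or.inl (Finset.subset_univ _)) hδ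
    (fun _ _ => Finset.subset_univ _) (fun s hs => SetLike.ext_iff.1 h ⟨s, hs⟩) fun δ' _ k => ?_
  obtain ⟨g, g1, -, g3⟩ := move24 (F := ∅) (A := δ) (B := δ') (by rw [hδ]; decide) (k.trans hδ.symm)
    (Finset.disjoint_empty_right _) (Finset.disjoint_empty_right _)
  exact ⟨g, g1, g3⟩

theorem m24 {T : Subgroup (Perm GolayPt)} (f : Fac M24 M24 H T Y) :
    (Nat.card T = 6072 ∧ Y.relIndex T = 24) ∨ Nat.card T = 10200960 ∨ Prs M24 Y := by
  have h := sieve f (MulEquiv.refl _) (H715.Fpr.M24.ctx base) sv24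
  rcases List.mem_append.1 h with h | h
  · simp only [List.mem_cons, Prod.mk.injEq, List.not_mem_nil, or_false] at h
    rcases h with ⟨a, b⟩ | ⟨a, b⟩ | ⟨a, b⟩ | ⟨a, b⟩ | ⟨a, b⟩ | ⟨a, b⟩ | ⟨a, b⟩
    · exact (no252 f (MulEquiv.refl _) a b).elim
    · exact (no6 f a b).elim
    · exact (no8 f a b).elim
    · exact (no12 f a b).elim
    · exact Or.inr (Or.inr (prs24 (f.relIndex_eq.symm.trans (rel_of_card a b rfl))))
    · exact (not253 f (rel_of_card a b rfl)).elim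
    · exact Or.inl ⟨a, rel_of_card a b rfl⟩
  · obtain ⟨c, -, h2⟩ := List.mem_map.1 h
    exact Or.inr (Or.inl (Prod.mk.inj h2).1.symm)

section perm

variable {Ω : Type} [Fintype Ω] [DecidableEq Ω] {X G T M S M₁ S₁ M₂ S₂ : Subgroup (Perm Ω)}

theorem eq24 (u : Up X G T M S) (e : S ≃* M24) : M = S :=
  le_antisymm (le_of_inner u.socM.as (inner_congr e (inner_of_out S2064.result))) u.socM.le

theorem up24 (u : Up X G T M S) (h : Spor.IsoM24 S) : (Nat.card T = 6072 ∧ Fintype.card Ω = 24) ∨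
    (Nat.card T = 10200960 ∧ (Fintype.card Ω = 1288 ∨ Fintype.card Ω = 1771 ∨ Fintype.card Ω = 40320)) := by
  obtain ⟨e⟩ := h
  obtain ⟨a⟩ := pt u
  obtain rfl := eq24 u e
  rcases m24 (fac_md (u.fac a) e) with h | h | h
  · rw [card_md e u.le, relIndex_md e u.le, u.relIndex] at h
    exact Or.inl h
  · rw [card_md e u.le] at h
    obtain ⟨e', he⟩ := exists_md e u.le h
    have f := fac_md (u.fac a) e'
    have h1 := relIndex_md (B := M ⊓ stabilizer (Perm Ω) a) e' u.le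
    rw [he] at f h1
    rw [u.relIndex] at h1
    have h2 := Fac.card_mul Spor.M23 (md e' (M ⊓ stabilizer (Perm Ω) a))
    rw [h1, c23'] at h2
    refine Or.inr ⟨h, ?_⟩
    rcases rows23 f (mem_c23 f) with k | k | k <;> rw [k] at h2 <;> omega
  · exact (not_prs u e a h).elim

/-- the restriction of the model to `T` -/
noncomputable def rs {e : S ≃* M24} (hT : T ≤ S) (he : md e T = Spor.M23) : T ≃* Spor.M23 :=
  (subgroupOfEquivOfLe hT).symm.trans ((Subgroup.equivMapOfInjective _ _ (md_inj e)).trans (MulEquiv.subgroupCongr he))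

theorem rs_apply {e : S ≃* M24} (hT : T ≤ S) (he : md e T = Spor.M23) (t : T) :
    (rs hT he t : Perm GolayPt) = e ⟨t, hT t.2⟩ := rfl

/-- **`T = M23` has one overgroup `M24`** -/
theorem one23 (u₁ : Up X G T M₁ S₁) (u₂ : Up X G T M₂ S₂) (h₁ : Spor.IsoM24 S₁) (h₂ : Spor.IsoM24 S₂)
    (hT : Nat.card T = 10200960) : M₁ = M₂ := by
  obtain ⟨a⟩ := pt u₁
  obtain rfl := eq24 u₁ h₁.some
  obtain rfl := eq24 u₂ h₂.some
  obtain ⟨e₀, k₀⟩ := exists_md h₁.some u₁.le hT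
  obtain ⟨e₂, k₂⟩ := exists_md h₂.some u₂.le hT
  obtain ⟨g, hg⟩ := inner_of_out S2063.result ((rs u₁.le k₀).symm.trans (rs u₂.le k₂))
  let e₁ : M₁ ≃* M24 := e₀.trans (MulAut.conj ⟨g, g.2.1⟩)
  have ag : ∀ t (ht : t ∈ T), e₁ ⟨t, u₁.le ht⟩ = e₂ ⟨t, u₂.le ht⟩ := fun t ht => by
    have h1 : rs u₂.le k₂ ((rs u₁.le k₀).symm (rs u₁.le k₀ ⟨t, ht⟩)) = g * rs u₁.le k₀ ⟨t, ht⟩ * g⁻¹ :=
      DFunLike.congr_fun hg (rs u₁.le k₀ ⟨t, ht⟩)
    rw [MulEquiv.symm_apply_apply] at h1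
    exact Subtype.ext (congrArg Subtype.val h1).symm
  have eq : ∀ U ≤ T, md e₁ U = md e₂ U := fun U hU => by
    refine le_antisymm ?_ ?_
    · rintro _ ⟨t, ht, rfl⟩
      exact ⟨⟨t, u₂.le (hU ht)⟩, ht, congrArg Subtype.val (ag t (hU ht)).symm⟩
    · rintro _ ⟨t, ht, rfl⟩
      exact ⟨⟨t, u₁.le (hU ht)⟩, ht, congrArg Subtype.val (ag t (hU ht))⟩
  have f₁ := fac_md (u₁.fac a) e₁
  have f₂ := fac_md (u₂.fac a) e₂
  have k₁ : md e₁ T = Spor.M23 := (eq T le_rfl).trans k₂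
  have hi : T ⊓ (M₁ ⊓ stabilizer (Perm Ω) a) = T ⊓ (M₂ ⊓ stabilizer (Perm Ω) a) := by
    rw [← inf_assoc, ← inf_assoc, inf_eq_left.2 u₁.le, inf_eq_left.2 u₂.le]
  have h3 : md e₁ T ⊓ md e₁ (M₁ ⊓ stabilizer (Perm Ω) a) = md e₂ T ⊓ md e₂ (M₂ ⊓ stabilizer (Perm Ω) a) := by
    rw [← md_inf, ← md_inf, eq _ inf_le_left, hi]
  rw [k₁] at f₁ h3
  rw [k₂] at f₂ h3
  have h4 := uniq23 f₁ f₂ h3
  refine u₁.rig_model u₂ e₁ e₂ (MulEquiv.refl _) ag (a := a) (b := a) fun s s' hs e => ?_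
  have h5 := (mem_md e₁ (U := M₁ ⊓ stabilizer (Perm Ω) a) s).2 ⟨s.2, hs⟩
  rw [h4, show e₁ s = e₂ s' from e] at h5
  exact ((mem_md e₂ s').1 h5).2

end perm

end Cfsg.Agent.SM.Mat
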