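import Cfsg.Agent.SM.Mat.Sieve
import Cfsg.Agent.SM.Mat.Geo
import Cfsg.Agent.SM.Mat.Cnt
import Cfsg.Agent.SM.Alt.MatB

/-!
# SM (S3570): the model of a factorisation inside the permutations of the 24 points, actions on pairs, counting in
degrees 11, 12, 24 (helper55)
-/

set_option autoImplicit false
set_option linter.unusedSectionVars false
set_option linter.unusedVariables false
set_option linter.style.haveILetI false

namespace Cfsg.Agent.SM.Mat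

open Cfsg Subgroup MulAction Equiv
open scoped Pointwise

section model

variable {Γ : Type} [Group Γ] [Finite Γ] {M S H T B : Subgroup Γ} {Γ' : Type} [Group Γ'] {S₀ : Subgroup Γ'}

/-- the image in the ambient group of the model -/
def md (e : S ≃* S₀) (U : Subgroup Γ) : Subgroup Γ' := (U.subgroupOf S).map (S₀.subtype.comp e.toMonoidHom)

theorem md_inj (e : S ≃* S₀) : Function.Injective (S₀.subtype.comp e.toMonoidHom) := S₀.subtype_injective.comp e.injective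

theorem mem_md (e : S ≃* S₀) {U : Subgroup Γ} (s : S) : (e s : Γ') ∈ md e U ↔ (s : Γ) ∈ U :=
  ⟨fun ⟨t, ht, h⟩ => by rw [← show t = s from md_inj e h]; exact ht, fun h => ⟨s, h, rfl⟩⟩

theorem md_le (e : S ≃* S₀) (U : Subgroup Γ) : md e U ≤ S₀ := by
  rintro _ ⟨t, -, rfl⟩
  exact (e t).2

theorem md_self (e : S ≃* S₀) : md e S = S₀ := le_antisymm (md_le e S) fun x hx => by
  have := (mem_md e (U := S) (e.symm ⟨x, hx⟩)).2 (e.symm ⟨x, hx⟩).2
  rwa [e.apply_symm_apply] at this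

theorem card_md (e : S ≃* S₀) {U : Subgroup Γ} (h : U ≤ S) : Nat.card (md e U) = Nat.card U := by
  rw [md, card_map_of_injective (md_inj e)]
  exact Nat.card_congr (subgroupOfEquivOfLe h).toEquiv

theorem md_inf (e : S ≃* S₀) (U V : Subgroup Γ) : md e (U ⊓ V) = md e U ⊓ md e V := by
  rw [md, md, md, ← map_inf _ _ _ (md_inj e)]
  rfl

theorem fac_md (f : Fac S S H T B) (e : S ≃* S₀) : Fac S₀ S₀ (md e H) (md e T) (md e B) := by
  have h := f.top.map (md_inj e)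
  have h1 : (S.subgroupOf S).map (S₀.subtype.comp e.toMonoidHom) = S₀ := md_self e
  rwa [h1] at h

theorem relIndex_md [Finite Γ'] (e : S ≃* S₀) (hT : T ≤ S) : (md e B).relIndex (md e T) = B.relIndex T := by
  have h1 := Fac.card_mul (md e T) (md e B)
  rw [← md_inf, card_md e (inf_le_left.trans hT), card_md e hT, ← Fac.card_mul T B] at h1
  exact Nat.eq_of_mul_eq_mul_left Nat.card_pos h1

/-- a class of `S` which meets `T` and `B` meets `T ⊓ B` -/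
theorem meet (f : Fac M S H T B) {x g : Γ} (hx : x ∈ T) (hg : g ∈ S) (hy : g * x * g⁻¹ ∈ B) :
    orderOf x ∣ Nat.card ↥(T ⊓ B) := by
  obtain ⟨t, ht, b, hb, h⟩ := f.fac _ (inv_mem hg)
  have e : t⁻¹ * x * t⁻¹⁻¹ = b * (g * x * g⁻¹) * b⁻¹ := by
    rw [← inv_inv g, h]; group
  have h1 : t⁻¹ * x * t⁻¹⁻¹ ∈ T ⊓ B :=
    mem_inf.2 ⟨mul_mem (mul_mem (inv_mem ht) hx) (inv_mem (inv_mem ht)), e ▸ mul_mem (mul_mem hb hy) (inv_mem hb)⟩
  have h2 := ord_dvd h1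
  rwa [show orderOf (t⁻¹ * x * t⁻¹⁻¹) = orderOf x from
    orderOf_injective (MulAut.conj t⁻¹).toMonoidHom (MulAut.conj t⁻¹).injective x] at h2

theorem rel_of_card {t c n : ℕ} (hT : Nat.card T = t) (hc : Nat.card ↥(T ⊓ B) = c) (h : c * n = t) : B.relIndex T = n := by
  have h1 := Fac.card_mul T B
  rw [hT, ← h, ← hc] at h1
  exact Nat.eq_of_mul_eq_mul_left Nat.card_pos h1

end model

/-- `Y` is the stabiliser in `S₀` of a pair, for an action on the pairs of a set `D` -/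
def Prs (S₀ Y : Subgroup (Perm GolayPt)) : Prop :=
  ∃ (D δ : Finset GolayPt) (c : Perm GolayPt), 4 ≤ D.card ∧ δ.card = 2 ∧ (∀ s ∈ S₀, s • δ ⊆ D) ∧
    (∀ s ∈ S₀, s ∈ Y ↔ s • δ = δ) ∧ (∀ δ' ⊆ D, δ'.card = 2 → ∃ s ∈ S₀, s • δ = δ') ∧ c ^ 3 = 1 ∧ (∀ x ∈ D, c x ∈ D) ∧
    ∀ s ∈ S₀, ¬ ∀ x ∈ D, s x = c x

theorem prs_of {S₀ Y : Subgroup (Perm GolayPt)} (hS : S₀ ≤ M24) {d D δ : Finset GolayPt} (hd : d ∈ dodecads)
    (h8 : 8 ≤ (D ∩ d).card) (hdD : d ⊆ D ∨ ∀ s ∈ S₀, s • d = d) (hδ : δ.card = 2) (h1 : ∀ s ∈ S₀, s • δ ⊆ D)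
    (h2 : ∀ s ∈ S₀, s ∈ Y ↔ s • δ = δ) (h3 : ∀ δ' ⊆ D, δ'.card = 2 → ∃ s ∈ S₀, s • δ = δ') : Prs S₀ Y := by
  obtain ⟨a, b, e, ha, hb, he, ab, ae, be⟩ := Finset.two_lt_card_iff.1 (show 2 < (D ∩ d).card by omega)
  have hc := Perm.isThreeCycle_swap_mul_swap_same ab ae be
  have fx : ∀ x, x ≠ a → x ≠ b → x ≠ e → (swap a b * swap a e) x = x := fun x xa xb xe => by
    rw [Perm.mul_apply, swap_apply_of_ne_of_ne xa xe, swap_apply_of_ne_of_ne xa xb]
  have iv : ∀ A : Finset GolayPt, D ∩ d ⊆ A → ∀ x ∈ A, (swap a b * swap a e) x ∈ A := fun A hA x hx => by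
    have k : ∀ u v : GolayPt, u ∈ A → v ∈ A → ∀ y ∈ A, swap u v y ∈ A := fun u v hu hv y hy => by
      rw [swap_apply_def]
      split_ifs <;> assumption
    exact k a b (hA ha) (hA hb) _ (k a e (hA ha) (hA he) x hx)
  refine ⟨D, δ, swap a b * swap a e, le_trans (by omega) (Finset.card_le_card (Finset.inter_subset_left (s₂ := d))), hδ, h1, h2,
    h3, by rw [← hc.orderOf, pow_orderOf_eq_one], iv D Finset.inter_subset_left, fun s hs h => ?_⟩
  have hsd : s • d = d := hdD.elim (fun k => smul_eq_of_inv fun x hx => by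
    rw [Perm.smul_def, h x (k hx)]
    exact iv d Finset.inter_subset_right x hx) fun k => k s hs
  have h5 : 5 ≤ ((D ∩ d) \ {a, b, e}).card := by
    have h6 := Finset.le_card_sdiff ({a, b, e} : Finset GolayPt) (D ∩ d)
    have h7 : ({a, b, e} : Finset GolayPt).card ≤ 3 := Finset.card_le_three
    omega
  have h6 := fix12 hd (hS hs) hsd (Finset.sdiff_subset.trans Finset.inter_subset_right) h5 fun x hx => by
    obtain ⟨x1, x2⟩ := Finset.mem_sdiff.1 hx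
    simp only [Finset.mem_insert, Finset.mem_singleton, not_or] at x2
    rw [h x (Finset.mem_inter.1 x1).1, fx x x2.1 x2.2.1 x2.2.2]
  have h7 := h a (Finset.mem_inter.1 ha).1
  rw [h6, Perm.mul_apply, swap_apply_left, swap_apply_of_ne_of_ne ae.symm be.symm] at h7
  exact ae h7

section perm

variable {Ω : Type} [Fintype Ω] [DecidableEq Ω] {X H T M S : Subgroup (Perm Ω)}

theorem not_prs (u : Up X H T S S) {S₀ : Subgroup (Perm GolayPt)} (e : S ≃* S₀) (a : Ω) :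
    ¬ Prs S₀ (md e (S ⊓ stabilizer (Perm Ω) a)) := by
  rintro ⟨D, δ, c, h4, hδ, h1, h2, h3, hc3, hcD, hc⟩
  refine not_pairs u le_rfl (S₀.subtype.comp e.toMonoidHom) D h4 a hδ (fun s => h1 _ (e s).2) (fun s => ?_)
    (fun δ' k1 k2 => ?_) hc3 hcD fun s => hc _ (e s).2
  · exact (⟨fun h => ⟨s.2, h⟩, fun h => h.2⟩ : _ ↔ (s : Perm Ω) ∈ S ⊓ stabilizer (Perm Ω) a).trans
      ((mem_md e s).symm.trans (h2 _ (e s).2))
  · obtain ⟨s, hs, h⟩ := h3 δ' k1 k2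
    refine ⟨e.symm ⟨s, hs⟩, ?_⟩
    show (e (e.symm ⟨s, hs⟩) : Perm GolayPt) • δ = δ'
    rwa [e.apply_symm_apply]

/-- a transitive group of degree `p + 1` with order divisible by `p` is 2-transitive -/
theorem two_of_prime {p : ℕ} (hp : p.Prime) (hn : Fintype.card Ω = p + 1) (hd : p ∣ Nat.card S)
    (tr : ∀ a b : Ω, ∃ s ∈ S, s a = b) {a b x y : Ω} (ab : a ≠ b) (xy : x ≠ y) : ∃ s ∈ S, s a = x ∧ s b = y := by
  obtain ⟨z, hz, ho⟩ := exists_ord hp hd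
  have h2 := hp.two_le
  have hcy : z.IsCycle := by
    rcases (show p = 2 ∨ p + 1 < 2 * p by omega) with h | h
    · exact Perm.isCycle_of_prime_order (ho ▸ hp) (by
        have := Finset.card_le_univ z.support
        omega)
    · exact Perm.isCycle_of_prime_order' (ho ▸ hp) (by omega)
  have hs : z.support.card = p := by rw [← hcy.orderOf, ho]
  obtain ⟨o, ho'⟩ : ∃ o, o ∉ z.support := by
    by_contra hn'
    push Not at hn'
    rw [Finset.eq_univ_of_forall hn', Finset.card_univ, hn] at hs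
    omega
  have hsup : z.support = Finset.univ.erase o :=
    Finset.eq_of_subset_of_card_le (fun y hy => Finset.mem_erase.2 ⟨fun e => ho' (e ▸ hy), Finset.mem_univ _⟩)
      (by rw [hs, Finset.card_erase_of_mem (Finset.mem_univ _), Finset.card_univ, hn]; rfl)
  have hmv : ∀ y, y ≠ o → z y ≠ y := fun y hy => Perm.mem_support.1 (hsup ▸ Finset.mem_erase.2 ⟨hy, Finset.mem_univ _⟩)
  obtain ⟨s, hs1, s1⟩ := tr a o
  obtain ⟨t, ht1, t1⟩ := tr x o
  obtain ⟨i, hi⟩ := hcy.exists_zpow_eq (hmv (s b) fun h => ab (s.injective (s1.trans h.symm)))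
    (hmv (t y) fun h => xy (t.injective (t1.trans h.symm)))
  refine ⟨t⁻¹ * z ^ i * s, mul_mem (mul_mem (inv_mem ht1) (zpow_mem hz i)) hs1, ?_, ?_⟩
  · rw [Perm.mul_apply, Perm.mul_apply, s1, Perm.zpow_apply_eq_self_of_apply_eq_self (Perm.notMem_support.1 ho'), ← t1]
    exact t.symm_apply_apply _
  · rw [Perm.mul_apply, Perm.mul_apply, hi]
    exact t.symm_apply_apply _

theorem conj_of_row {S₁ S₂ : Subgroup (Perm Ω)} (θ : S₁ ≃* S₂) {p : ℕ} (hp : p.Prime) (hn : Fintype.card Ω = p + 1)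
    (hd : p ∣ Nat.card S₁) (t1 : ∀ a b : Ω, ∃ s ∈ S₁, s a = b) (t2 : ∀ a b : Ω, ∃ s ∈ S₂, s a = b)
    (hr : Alt.Row2 S₁ (p + 1)) : ∃ π : Perm Ω, S₂ = S₁.map (MulAut.conj π).toMonoidHom := by
  have hc : Nat.card Ω = p + 1 := Nat.card_eq_fintype_card.trans hn
  have a1 : Alt.Act S₁ Ω (p + 1) := ⟨inferInstance, hc, fun t h => Subtype.ext (Perm.ext h), fun a b x y ab xy =>
    let ⟨s, hs, h⟩ := two_of_prime hp hn hd t1 ab xy
    ⟨⟨s, hs⟩, h⟩⟩
  let i2 : MulAction S₁ Ω := MulAction.compHom Ω (S₂.subtype.comp θ.toMonoidHom)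
  have a2 : @Alt.Act S₁ Ω _ i2 (p + 1) := @Alt.Act.mk S₁ Ω _ i2 (p + 1) inferInstance hc
    (fun t h => θ.injective (Subtype.ext ((Perm.ext h : (θ t : Perm Ω) = 1).trans (by rw [map_one]; rfl)))) fun a b x y ab xy => by
      obtain ⟨s, hs, h⟩ := two_of_prime hp hn (Nat.card_congr θ.toEquiv ▸ hd) t2 ab xy
      refine ⟨θ.symm ⟨s, hs⟩, ?_⟩
      show (θ (θ.symm ⟨s, hs⟩) : Perm Ω) a = x ∧ (θ (θ.symm ⟨s, hs⟩) : Perm Ω) b = y
      rwa [θ.apply_symm_apply]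
  obtain ⟨γ, a₁, a₂, h⟩ := @hr Ω Ω Subgroup.instMulAction i2 a1 a2
  exact exists_conj_of_iso (γ.trans θ) (t1 a₁) h

theorem index_stab (tr : ∀ a b : Ω, ∃ s ∈ S, s a = b) (a : Ω) : ((stabilizer (Perm Ω) a).subgroupOf S).index = Fintype.card Ω := by
  have h := relIndex_orb S a
  rwa [Finset.eq_univ_of_forall fun b => (mem_orb (U := S)).2 (tr a b), Finset.card_univ] at h

theorem conj_of_rowAt {S₁ S₂ : Subgroup (Perm Ω)} (θ : S₁ ≃* S₂) (t1 : ∀ a b : Ω, ∃ s ∈ S₁, s a = b)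
    (t2 : ∀ a b : Ω, ∃ s ∈ S₂, s a = b) (a : Ω) (hr : H561.PPow.RowAt S₁ (Fintype.card Ω)) :
    ∃ π : Perm Ω, S₂ = S₁.map (MulAut.conj π).toMonoidHom := by
  obtain ⟨γ, h⟩ := hr _ (((stabilizer (Perm Ω) a).subgroupOf S₂).comap θ.toMonoidHom) (index_stab t1 a)
    ((index_comap_of_surjective _ θ.surjective).trans (index_stab t2 a))
  exact exists_conj_of_iso (γ.trans θ) (t1 a) h

theorem card_norm_le {K : Type} [Group K] [Finite K] (e : S ≃* K) {x : Perm Ω} (hx : x ∈ S) {p m : ℕ} (ho : orderOf x = p)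
    (h : ∀ R : Subgroup K, Nat.card R = p → Nat.card (normalizer (R : Set K)) = m) :
    m ≤ Nat.card ↥(normalizer (zpowers x : Set (Perm Ω)) ⊓ S) := by
  rw [← h (zpowers (e ⟨x, hx⟩)) (by rw [Nat.card_zpowers, MulEquiv.orderOf_eq, orderOf_mk, ho]), inf_comm, ← card_im e]
  refine card_le_of_le fun g hg => ?_
  obtain ⟨s, rfl⟩ := e.surjective g
  refine (mem_im e s).2 (mem_normalizer_zpowers ?_)
  obtain ⟨k, hk⟩ := (mem_normalizer_iff.1 hg _).1 (mem_zpowers _)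
  have h1 : (⟨x, hx⟩ : S) ^ k = s * ⟨x, hx⟩ * s⁻¹ := e.injective (by rw [map_zpow, map_mul, map_mul, map_inv]; exact hk)
  exact ⟨k, congrArg Subtype.val h1⟩

/-- **at most two overgroups** in degree `p` or `p + 1` -/
theorem cnt_two {P : Fam} {K : Type} [Group K] [Finite K] {p m : ℕ} (hp : p.Prime) (h3 : 3 ≤ p) (hn : Fintype.card Ω ≤ p + 1)
    (hT : p ∣ Nat.card T) (h2 : ¬ p ^ 2 ∣ Nat.card K) (hm : p * (p - 1) ≤ 2 * m)
    (hN : ∀ R : Subgroup K, Nat.card R = p → Nat.card (normalizer (R : Set K)) = m)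
    (hK : ∀ M S, Up X H T M S → P S → Nonempty (S ≃* K))
    (hc : ∀ S₁ S₂ : Subgroup (Perm Ω), Nonempty (S₁ ≃* K) → (S₁ ≃* S₂) → T ≤ S₁ → T ≤ S₂ →
      ∃ π : Perm Ω, S₂ = S₁.map (MulAut.conj π).toMonoidHom) : (OvP P X H T).ncard ≤ 2 := by
  obtain ⟨x, hx, ho⟩ := exists_ord hp hT
  refine (ncard_le_of_soc (O := OvP P X H T) (𝒮 := {S | Nonempty (S ≃* K) ∧ T ≤ S}) fun M ⟨S, u, h⟩ => ⟨S, ⟨hK M S u h, u.le⟩, u⟩).trans
    (ncard_le_two hp h3 ho hn (fun S h => h.2 hx) (fun S h => Nat.card_congr h.1.some.toEquiv ▸ h2)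
      (fun S h => hm.trans (Nat.mul_le_mul_left 2 (card_norm_le h.1.some (h.2 hx) ho hN)))
      fun S₁ h₁ S₂ h₂ => hc S₁ S₂ h₁.1 (h₁.1.some.trans h₂.1.some.symm) h₁.2 h₂.2)

end perm

end Cfsg.Agent.SM.Mat
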