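import Cfsg.Agent.SM.Mat.M24C
import Cfsg.Agent.SM.Mat.Tab

/-!
# SM (S3570): the box of the Mathieu groups from the five pure boxes (helper55)
-/

set_option autoImplicit false
set_option linter.unusedVariables false
set_option linter.style.haveILetI false

namespace Cfsg.Agent.SM.Mat

open Cfsg Subgroup MulAction Equiv

theorem boxMat_of (b1 : BoxMax11) (b2 : BoxIdx12) (b3 : BoxAut12) (b4 : BoxDuad12) (b5 : BoxNo22) : BoxMat := by
  intro Ω _ _ X H T ⟨M₀, S₀, u₀, h₀⟩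
  obtain ⟨a⟩ := pt u₀
  have row : ∀ M S, Up X H T M S → fMat S →
      (Spor.IsoM11 S ∧ Nat.card T = 660 ∧ Fintype.card Ω = 11) ∨
      (Spor.IsoM12 S ∧ (Nat.card T = 660 ∨ Nat.card T = 7920) ∧ Fintype.card Ω = 12) ∨
      (Spor.IsoM24 S ∧ ((Nat.card T = 6072 ∧ Fintype.card Ω = 24) ∨
        (Nat.card T = 10200960 ∧ (Fintype.card Ω = 1288 ∨ Fintype.card Ω = 1771 ∨ Fintype.card Ω = 40320)))) := by
    intro M S u h
    rcases h with h | h | h | h | h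
    · exact Or.inl ⟨h, up11 u h⟩
    · exact Or.inr (Or.inl ⟨h, up12 b1 b2 b3 b4 u h⟩)
    · exact (m22 b5 (u.fac a) h.some).elim
    · exact (m23 (u.fac a) h.some).elim
    · exact Or.inr (Or.inr ⟨h, up24 u h⟩)
  have tr : ∀ {S : Subgroup (Perm Ω)}, T ≤ S → ∀ a b : Ω, ∃ s ∈ S, s a = b := fun h a b =>
    let ⟨t, ht, e⟩ := u₀.trans a b
    ⟨t, h ht, e⟩
  have k24 : 24 ≤ Fintype.card Ω → ∀ M S, Up X H T M S → fMat S → Spor.IsoM24 S := fun hn M S u h => by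
    rcases row M S u h with h | h | h
    · omega
    · omega
    · exact h.1
  rcases row M₀ S₀ u₀ h₀ with ⟨-, ht, hn⟩ | ⟨-, ht, hn⟩ | ⟨-, ⟨ht, hn⟩ | ⟨ht, hn⟩⟩
  · refine ⟨2, Or.inl ⟨ht, hn, rfl⟩, cnt_two (K := Spor.M11) (p := 11) (m := 55) (by decide) (by decide) (by omega)
      (by rw [ht]; decide) (by rw [c11]; decide) (by decide) (fun R hR => (H715.Fpr.MathData.cn11_11 hR).2) (fun M S u h => ?_)
      fun S₁ S₂ e θ h₁ h₂ => conj_of_rowAt θ (tr h₁) (tr h₂) a (hn ▸ H561.PPow.rowAt_m11 (Alt.Mat.isM11 e))⟩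
    rcases row M S u h with h | h | h
    · exact h.1
    · omega
    · omega
  · refine ⟨2, ?_, cnt_two (K := Spor.M12) (p := 11) (m := 55) (by decide) (by decide) (by omega)
      (by rcases ht with ht | ht <;> rw [ht] <;> decide) (by rw [c12]; decide) (by decide)
      (fun R hR => (H715.Fpr.MathData.cn12_11 hR).2) (fun M S u h => ?_)
      fun S₁ S₂ e θ h₁ h₂ => conj_of_row θ (p := 11) (by decide) hn (by rw [Nat.card_congr e.some.toEquiv, c12]; decide)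
        (tr h₁) (tr h₂) (Alt.Mat.m12_row e)⟩
    · rcases ht with ht | ht
      · exact Or.inr (Or.inl ⟨ht, hn, rfl⟩)
      · exact Or.inr (Or.inr (Or.inl ⟨ht, hn, rfl⟩))
    · rcases row M S u h with h | h | h
      · omega
      · exact h.1
      · omega
  · exact ⟨2, Or.inr (Or.inr (Or.inr (Or.inl ⟨ht, hn, rfl⟩))), cnt_two (K := M24) (p := 23) (m := 253) (by decide) (by decide)
      (by omega) (by rw [ht]; decide) (by rw [c24]; decide) (by decide) (fun R hR => (H715.Fpr.MathData.cn24_23 hR).2)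
      (k24 hn.ge) fun S₁ S₂ e θ h₁ h₂ => conj_of_row θ (p := 23) (by decide) hn
        (by rw [Nat.card_congr e.some.toEquiv, c24]; decide) (tr h₁) (tr h₂) (Alt.Mat.m24_row e)⟩
  · refine ⟨1, Or.inr (Or.inr (Or.inr (Or.inr ?_))), (Set.ncard_le_one (Set.toFinite _)).2
      fun M₁ ⟨S₁, u₁, h₁⟩ M₂ ⟨S₂, u₂, h₂⟩ => one23 u₁ u₂ (k24 (by omega) _ _ u₁ h₁) (k24 (by omega) _ _ u₂ h₂) ht⟩
    rcases hn with hn | hn | hn
    exacts [Or.inl ⟨ht, hn, rfl⟩, Or.inr (Or.inl ⟨ht, hn, rfl⟩), Or.inr (Or.inr ⟨ht, hn, rfl⟩)]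

end Cfsg.Agent.SM.Mat
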