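import Cfsg.Agent.SM.Mat.Mod
import Cfsg.Agent.SM.Mat.Box
import Cfsg.Agent.SporadicA.M11Facts2
import Cfsg.Agent.S0420
import Cfsg.Agent.S2060

/-!
# SM (S3570): the rows for `S = M11, M12, M22, M23` (helper55)
-/

set_option autoImplicit false
set_option linter.unusedSectionVars false
set_option linter.unusedVariables false
set_option linter.style.haveILetI false

namespace Cfsg.Agent.SM.Mat

open Cfsg Subgroup MulAction Equiv Cfsg.Agent.H940.Eng.D
open scoped Pointwise

theorem c11 : Nat.card Spor.M11 = 7920 := (H715.Fpr.M11.ctx base).card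
theorem c12 : Nat.card Spor.M12 = 95040 := (H715.Fpr.M12.ctx base).card
theorem c22 : Nat.card Spor.M22 = 443520 := (H715.Fpr.M22.ctx base).card
theorem c23' : Nat.card Spor.M23 = 10200960 := (H715.Fpr.M23.ctx base).card
theorem c24 : Nat.card M24 = 244823040 := (H715.Fpr.M24.ctx base).card

/-- a subgroup of order 144 of `M11` which is maximal is the stabiliser of a pair -/
theorem prs11 {Y : Subgroup (Perm GolayPt)} (hY : Y ⋖ Spor.M11) (hc : Nat.card Y = 144) : Prs Spor.M11 Y := by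
  haveI : Fact (Nat.Prime 3) := ⟨by decide⟩
  set d := Spor.squareDodecad with hd
  have d12 : d.card = 12 := dod.2
  let D := d.erase (some 0)
  have D11 : D.card = 11 := by rw [Finset.card_erase_of_mem zero_dod, d12]
  have iv : ∀ s ∈ Spor.M11, ∀ x ∈ D, s • x ∈ D := fun s hs x hx => Finset.mem_erase.2
    ⟨fun h => (Finset.mem_erase.1 hx).1 (s.injective (h.trans hs.2.symm)), inv_of_smul_eq hs.1.2 (Finset.mem_erase.1 hx).2⟩
  obtain ⟨P₀, hP₀⟩ := Sylow.exists_subgroup_card_pow_prime (G := Y) 3 (n := 2) (by rw [hc]; decide)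
  let P := P₀.map Y.subtype
  have p1 : P ≤ Y := map_subtype_le _
  have p9 : Nat.card P = 9 := by rw [card_map_of_injective Y.subtype_injective, hP₀]; rfl
  have pp : IsPGroup 3 P := IsPGroup.of_card (n := 2) p9
  have k : ∀ g ∈ P, orderOf g = 3 → (fxs (zpowers g) d).card ≤ 3 := fun g hg ho => by
    have g1 := hY.le (p1 hg)
    have h1 := fxs_mod' (A := d) (by decide) ho fun a ha => inv_of_smul_eq g1.1.2 ha
    by_contra h
    have h2 := fix12 dod g1.1.1 g1.1.2 (fxs_subset (zpowers g) d) (by omega) fun a ha => (mem_fxs_zpowers.1 ha).2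
    rw [h2, orderOf_one] at ho
    omega
  have h2 := fxs_mod (by decide) pp fun g hg => iv g (hY.le (p1 hg))
  obtain ⟨b, hb, nb⟩ : ∃ b ∈ D, b ∉ fxs P D := by
    by_contra h
    push Not at h
    obtain ⟨g, hg, ho⟩ := exists_ord (U := P) (p := 3) (by decide) (by rw [p9]; decide)
    have h3 := Finset.card_le_card (show D ⊆ fxs (zpowers g) d from fun x hx =>
      mem_fxs_zpowers.2 ⟨Finset.mem_of_mem_erase hx, (mem_fxs.1 (h x hx)).2 g hg⟩)
    have := k g hg ho
    omega
  have h9 : (orb P b).card = 9 := by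
    have h3 := card_orb P b
    have h4 : ¬ 3 ∣ Nat.card ↥(P ⊓ stabilizer (Perm GolayPt) b) := fun h => by
      obtain ⟨g, hg, ho⟩ := exists_ord (by decide) h
      have h5 := Finset.card_le_card (show insert (some 0) (insert b (fxs P D)) ⊆ fxs (zpowers g) d from fun x hx => by
        rcases Finset.mem_insert.1 hx with rfl | hx
        · exact mem_fxs_zpowers.2 ⟨zero_dod, (hY.le (p1 hg.1)).2⟩
        rcases Finset.mem_insert.1 hx with rfl | hx
        · exact mem_fxs_zpowers.2 ⟨Finset.mem_of_mem_erase hb, hg.2⟩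
        · exact mem_fxs_zpowers.2 ⟨Finset.mem_of_mem_erase (mem_fxs.1 hx).1, (mem_fxs.1 hx).2 g hg.1⟩)
      rw [Finset.card_insert_of_notMem, Finset.card_insert_of_notMem nb] at h5
      · have := k g hg.1 ho
        omega
      · intro h6
        rcases Finset.mem_insert.1 h6 with h6 | h6
        · exact (Finset.mem_erase.1 hb).1 h6.symm
        · exact (Finset.mem_erase.1 (mem_fxs.1 h6).1).1 rfl
    have h5 : Nat.card ↥(P ⊓ stabilizer (Perm GolayPt) b) ∣ 3 ^ 2 := ⟨_, by rw [h3, p9]; rfl⟩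
    obtain ⟨i, hi, h6⟩ := (Nat.dvd_prime_pow (by decide)).1 h5
    rw [h6] at h3 h4
    interval_cases i <;> omega
  have o1 : orb Y b ⊆ D := orb_subset hb fun u hu => iv u (hY.le hu)
  have o2 : orb P b ⊆ orb Y b := orb_subset (self_orb Y b) fun u hu c hc => smul_orb (p1 hu) hc
  have o9 : (orb Y b).card = 9 := by
    have h3 := Finset.card_le_card o1
    have h4 := Finset.card_le_card o2
    have h5 : (orb Y b).card ∣ 144 := ⟨_, by rw [← hc, ← card_orb Y b, mul_comm]⟩
    have h6 : (orb Y b).card = 9 ∨ (orb Y b).card = 10 ∨ (orb Y b).card = 11 := by omega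
    rcases h6 with h | h | h
    · exact h
    all_goals rw [h] at h5; exact absurd h5 (by decide)
  let δ := D \ orb Y b
  have hδ : δ.card = 2 := by rw [Finset.card_sdiff_of_subset o1, D11, o9]
  have tr : ∀ δ' ⊆ D, δ'.card = 2 → ∃ s ∈ Spor.M11, s • δ = δ' := fun δ' k1 k2 => by
    have dj : ∀ A ⊆ D, Disjoint A {some 0} := fun A hA => Finset.disjoint_singleton_right.2 fun h => (Finset.mem_erase.1 (hA h)).1 rfl
    obtain ⟨g, g1, g2, g3⟩ := move12 dod (F := {some 0}) (A := δ) (B := δ') (Finset.singleton_subset_iff.2 zero_dod)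
      (Finset.sdiff_subset.trans (Finset.erase_subset _ _)) (k1.trans (Finset.erase_subset _ _)) (by rw [hδ]; decide) (k2.trans hδ.symm)
      (dj _ Finset.sdiff_subset) (dj _ k1)
    exact ⟨g, ⟨g1, g2 _ (Finset.mem_singleton_self _)⟩, g3⟩
  have hYe : Y = Spor.M11 ⊓ stabilizer (Perm GolayPt) δ := eq_stab hY
    (fun y hy => smul_eq_of_inv (inv_sdiff (fun u hu => iv u (hY.le hu)) (fun u hu c hc => smul_orb hu hc) y hy)) (by
      obtain ⟨δ', k1, k2⟩ := Finset.exists_subset_card_eq (s := orb Y b) (n := 2) (by omega)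
      obtain ⟨s, hs, h⟩ := tr δ' (k1.trans o1) k2
      refine ⟨s, hs, fun e => ?_⟩
      obtain ⟨x, hx⟩ := Finset.card_pos.1 (show 0 < δ'.card by omega)
      exact (Finset.mem_sdiff.1 (show x ∈ δ from (h.symm.trans e) ▸ hx)).2 (k1 hx))
  refine prs_of (D := D) (fun s hs => hs.1.1) dod ?_ (Or.inr fun s hs => hs.1.2) hδ (fun s hs x hx => ?_)
    (fun s hs => by rw [hYe]; exact ⟨fun h => h.2, fun h => ⟨hs, h⟩⟩) tr
  · rw [Finset.inter_eq_left.2 (Finset.erase_subset _ _), D11]; decide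
  · obtain ⟨y, hy, rfl⟩ := Finset.mem_smul_finset.1 hx
    exact iv s hs y (Finset.mem_sdiff.1 hy).1

theorem m11 {H T Y : Subgroup (Perm GolayPt)} (f : Fac Spor.M11 Spor.M11 H T Y) :
    (Nat.card T = 660 ∧ Y.relIndex T = 11) ∨ Prs Spor.M11 Y := by
  have h := sieve f (MulEquiv.refl _) (H715.Fpr.M11.ctx base) sv11
  have e := f.card_eq
  rw [inf_eq_right.2 f.BM, c11] at e
  have k : Nat.card T = 660 → 3 ∣ Nat.card ↥(T ⊓ Y) := fun hT => by
    obtain ⟨x, hx, ox⟩ := exists_ord (U := T) (p := 3) (by decide) (by rw [hT]; decide)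
    obtain ⟨y, hy, oy⟩ := exists_ord (U := Y) (p := 3) (by decide) (by rw [hT] at e; omega)
    obtain ⟨g, hg⟩ := isConj_iff.1 (SporadicA.M11Facts2.isConj_three (Alt.Mat.isM11 ⟨MulEquiv.refl Spor.M11⟩)
      (s := ⟨x, f.le hx⟩) (t := ⟨y, f.BM hy⟩) (by rw [orderOf_mk, ox]) (by rw [orderOf_mk, oy]))
    have h1 : g * x * (g : Perm GolayPt)⁻¹ = y := congrArg Subtype.val hg
    exact ox ▸ meet f hx g.2 (h1 ▸ hy)
  simp only [List.mem_cons, Prod.mk.injEq, List.not_mem_nil, or_false] at h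
  rcases h with ⟨hT, hc⟩ | ⟨hT, hc⟩ | ⟨hT, hc⟩ | ⟨hT, hc⟩
  · exact absurd (hc ▸ k hT) (by decide)
  · exact Or.inr (prs11 f.bm (by rw [hT, hc] at e; omega))
  · exact absurd (hc ▸ k hT) (by decide)
  · exact Or.inl ⟨hT, rel_of_card hT hc rfl⟩

theorem prs12 (b : BoxDuad12) {Y : Subgroup (Perm GolayPt)} (hc : Y.relIndex Spor.M12 = 66) : Prs Spor.M12 Y := by
  obtain ⟨δ, hδ, h1, h2⟩ := b (Y.subgroupOf Spor.M12) hc
  have key : ∀ d ∈ dodecads, δ ⊆ d → Spor.M12 = M24 ⊓ stabilizer (Perm GolayPt) d → Prs Spor.M12 Y := fun d hd hs he => by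
    have st : ∀ s ∈ Spor.M12, s • d = d := fun s hs => (he.le hs).2
    refine prs_of (D := d) (fun s hs => hs.1) hd (by rw [Finset.inter_self, hd.2]; decide) (Or.inr st) hδ
      (fun s hs' => st s hs' ▸ Finset.smul_finset_subset_smul_finset hs) (fun s hs' => h2 ⟨s, hs'⟩) fun δ' k1 k2 => ?_
    obtain ⟨g, g1, -, g3⟩ := move12 hd (F := ∅) (A := δ) (B := δ') (Finset.empty_subset _) hs k1 (by rw [hδ]; decide)
      (k2.trans hδ.symm) (Finset.disjoint_empty_right _) (Finset.disjoint_empty_right _)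
    exact ⟨g, he.ge g1, g3⟩
  rcases h1 with h1 | h1
  · exact key _ dod h1 rfl
  · refine key _ (SporadicA.Dodecad.compl_dodecad dod) h1 (Subgroup.ext fun g => and_congr_right fun _ => ?_)
    show g • Spor.squareDodecad = _ ↔ g • Spor.squareDodecadᶜ = _
    have k : ∀ A : Finset GolayPt, g • A = A → g • Aᶜ = Aᶜ := fun A h => smul_eq_of_inv fun c hc =>
      Finset.mem_compl.2 fun h1 => Finset.mem_compl.1 hc (Finset.smul_mem_smul_finset_iff g |>.1 (h.symm ▸ h1))
    exact ⟨k _, fun h => by simpa only [compl_compl] using k _ h⟩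

section

variable {Γ : Type} [Group Γ] [Finite Γ] {M S H T B : Subgroup Γ}

theorem le12 (b : BoxAut12) (f : Fac M S H T B) (e : S ≃* Spor.M12) (hc : B.relIndex S = 66) : M ≤ S := by
  have hB : B ≤ S := fun x hx => by
    obtain ⟨g, hg⟩ := b (im e B) (e.symm.trans ((f.asM.aut ⟨x, f.BM hx⟩).trans e)) ((index_im e B).trans hc) fun y hy => by
      obtain ⟨s, rfl⟩ := e.surjective y
      show e (f.asM.aut ⟨x, f.BM hx⟩ (e.symm (e s))) ∈ _
      rw [e.symm_apply_apply, mem_im, f.asM.aut_apply]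
      exact mul_mem (mul_mem hx ((mem_im e s).1 hy)) (inv_mem hx)
    have h1 := f.asM.cen (((e.symm g)⁻¹ : S) * x) (mul_mem (f.asM.le (e.symm g)⁻¹.2) (f.BM hx)) fun t ht => by
      have h2 : e (f.asM.aut ⟨x, f.BM hx⟩ (e.symm (e ⟨t, ht⟩))) = g * e ⟨t, ht⟩ * g⁻¹ := DFunLike.congr_fun hg (e ⟨t, ht⟩)
      rw [e.symm_apply_apply, ← e.apply_symm_apply g, ← map_inv, ← map_mul, ← map_mul] at h2
      have h3 : x * t * x⁻¹ = e.symm g * t * (e.symm g : Γ)⁻¹ :=
        (f.asM.aut_apply ⟨x, f.BM hx⟩ ⟨t, ht⟩).symm.trans (congrArg Subtype.val (e.injective h2))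
      calc (e.symm g : Γ)⁻¹ * x * t = (e.symm g : Γ)⁻¹ * (x * t * x⁻¹) * x := by group
        _ = t * ((e.symm g : Γ)⁻¹ * x) := by rw [h3]; group
    have h2 : x = e.symm g := (inv_mul_eq_one.1 h1).symm
    exact h2 ▸ (e.symm g).2
  intro m hm
  obtain ⟨h, hh, s, hs, rfl⟩ := f.facH m hm
  exact mul_mem (hB hh.2) hs

/-- `T` without outer automorphisms: `T ⊓ B` is maximal in `T` -/
theorem cov_of_inner (f : Fac M S H T B) (hi : ∀ θ : MulAut T, ∃ g, θ = MulAut.conj g) : T ⊓ B ⋖ T := by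
  have h := f.pr
  rwa [le_antisymm (le_of_inner f.asH hi) f.asH.le] at h

theorem coatom_im {K : Type} [Group K] (e : T ≃* K) (h : T ⊓ B ⋖ T) : IsCoatom (im e (T ⊓ B)) :=
  (OrderIso.isCoatom_iff e.mapSubgroup _).2 (isCoatom_of_covBy h)

theorem m12 (b1 : BoxMax11) (b2 : BoxIdx12) (f : Fac M S H T B) (e : S ≃* Spor.M12) :
    ((Nat.card T = 660 ∨ Nat.card T = 7920) ∧ B.relIndex T = 12) ∨ B.relIndex T = 66 := by
  have h := sieve f e (H715.Fpr.M12.ctx base) sv12
  have i := b2 (im e B)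
  rw [index_im, ← f.relIndex_eq] at i
  have hm := Fac.card_mul T B
  by_cases hT : Nat.card T = 7920
  · obtain ⟨ε⟩ := S0420.result (G := T) ⟨f.asH.simple, hT⟩ _ dod _ zero_dod
    let ε' : T ≃* Spor.M11 := ε.trans Schreier.MEleven.equiv
    have h1 := b1 _ (coatom_im ε' (cov_of_inner f (inner_congr ε' (inner_of_out S2060.result))))
    rw [card_im_le ε' inf_le_left] at h1
    simp only [List.mem_cons, Prod.mk.injEq, List.not_mem_nil, or_false] at h h1
    rw [hT] at hm
    rcases h1 with h1 | h1 | h1 | h1 | h1 <;> rw [h1] at hm h <;> omega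
  · simp only [List.mem_cons, Prod.mk.injEq, List.not_mem_nil, or_false, hT, false_and] at h
    rcases h with ⟨h1, h2⟩ | ⟨h1, h2⟩ | ⟨h1, h2⟩ <;> rw [h1, h2] at hm <;> omega

theorem m22 (b : BoxNo22) (f : Fac M S H T B) (e : S ≃* Spor.M22) : False := by
  have h := sieve f e (H715.Fpr.M22.ctx base) sv22
  have h1 := b (im e T)
  have h2 := b (im e B)
  have h3 := f.card_eq
  rw [card_im_le e f.le] at h1
  rw [card_im] at h2
  rw [Nat.card_congr e.toEquiv, c22] at h3
  simp only [List.mem_cons, Prod.mk.injEq, List.not_mem_nil, or_false, h1, false_and, false_or] at h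
  rw [h.1, h.2] at h3
  omega

theorem m23 (f : Fac M S H T B) (e : S ≃* Spor.M23) : False :=
  List.not_mem_nil (sieve f e (H715.Fpr.M23.ctx base) sv23)

end

section perm

variable {Ω : Type} [Fintype Ω] [DecidableEq Ω] {X H T M S : Subgroup (Perm Ω)}

theorem pt (u : Up X H T M S) : Nonempty Ω := Fintype.card_pos_iff.1 (lt_of_lt_of_le two_pos u.two)

theorem up11 (u : Up X H T M S) (h : Spor.IsoM11 S) : Nat.card T = 660 ∧ Fintype.card Ω = 11 := by
  obtain ⟨e⟩ := h
  obtain ⟨a⟩ := pt u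
  obtain rfl : M = S := le_antisymm (le_of_inner u.socM.as (inner_congr e (inner_of_out S2060.result))) u.socM.le
  rcases m11 (fac_md (u.fac a) e) with h | h
  · rwa [card_md e u.le, relIndex_md e u.le, u.relIndex] at h
  · exact (not_prs u e a h).elim

theorem up12 (b1 : BoxMax11) (b2 : BoxIdx12) (b3 : BoxAut12) (b4 : BoxDuad12) (u : Up X H T M S) (h : Spor.IsoM12 S) :
    (Nat.card T = 660 ∨ Nat.card T = 7920) ∧ Fintype.card Ω = 12 := by
  obtain ⟨e⟩ := h
  obtain ⟨a⟩ := pt u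
  rcases m12 b1 b2 (u.fac a) e with h | h
  · rwa [u.relIndex] at h
  · obtain rfl : M = S := le_antisymm (le12 b3 (u.fac a) e ((u.fac a).relIndex_eq ▸ h)) u.socM.le
    refine (not_prs u e a (prs12 b4 ?_)).elim
    rw [← (fac_md (u.fac a) e).relIndex_eq, relIndex_md e u.le, h]

end perm

end Cfsg.Agent.SM.Mat
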